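import Groth.Agent.Sga5.H853.LocCmp
import Groth.Agent.Etrest.SmoothProper1

/-!
# Cohomology of a scheme over a strictly henselian base whose generic point is open and geometric

`t : Spec Ω ⟶ Spec R` an open immersion, `R` strictly henselian, `Ω` separably closed, `f : X ⟶ Spec R`, `w : Y ⟶ X`
the base change of `t`, `G` a sheaf on `X` killed by `N` invertible on `R`, which is finite locally constant and `X` smooth
over `R` near the closed fibre: then `|H^q(X, G)| = |H^q(Y, G|_Y)|`.
-/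

set_option autoImplicit false
universe u
open CategoryTheory CategoryTheory.Limits AlgebraicGeometry Opposite

namespace Groth.Agent.Sga5.H853.Acyc

open Groth.Agent.Sga4h Groth.Agent.Sga4h.HYRestr Groth.Agent.Sga4h.KerSect
  Groth.Agent.Sga5.LocCohSeq Groth.Agent.Sga4h.PullInj Groth.Agent.Sga4h.EulerCount
  Groth.Agent.EtpbcB.GammaRpush Groth.Agent.EtpbcB.SepClosedPoint Groth.Agent.Sga5.H853.LocTerm
  Groth.Agent.Sga5.H853.CountLES Groth.Agent.Etbase.StalkPull
  Groth.Agent.Etrest.FLCTors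

section les

variable {X U : Scheme.{u}} (j : U ⟶ X) [IsOpenImmersion j] (F : EtCoh.Ab X)

/-- If the local cohomology sheaves vanish then restriction to `U` is bijective on cohomology. -/
theorem nonempty_H_equiv (h : ∀ q, IsZero ((EtDual.locCoh j q).obj F)) (q : ℕ) :
    Nonempty (EtCoh.H X F q ≃ EtCoh.H U ((EtCoh.pull j).obj F) q) := by
  have hlex := LocCohSeq.preservesFiniteLimits_secSupp j
  have hinj : ∀ I : EtCoh.Ab X, Injective I → Injective ((EtDual.secSupp j).obj I) := fun I hI =>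
    SecSupp.injective_secSupp j I
  have hz : ∀ n, IsZero (((kerSect (mU j)).rightDerived n).obj F) := fun n => by
    have h1 : IsZero (((EtDual.secSupp j ⋙ ev (EtCoh.top X)).rightDerived n).obj F) :=
      Sga4h.Edge.isZero_rightDerived_comp (EtDual.secSupp j) (ev (EtCoh.top X)) hinj F (n + 1)
        (fun p hp => h p) n (by omega)
    exact h1.of_iso ((RightDer.rightDerivedIso (gammaSuppIso' j) n).app F).symm
  have hse := fun (I : EtCoh.Ab X) (hI : Injective I) =>
    LocCohSeq.shortExact_of_injective (mU j) I hI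
  have m1 : Mono ((NatTrans.rightDerived (resS (mU j)) q).app F) :=
    (FunLES.exact₂ (inclS (mU j)) (resS (mU j)) (inclS_resS (mU j)) hse F q).mono_g
      ((hz q).eq_of_src _ _)
  have m2 : Epi ((NatTrans.rightDerived (resS (mU j)) q).app F) :=
    (FunLES.exact₃ (inclS (mU j)) (resS (mU j)) (inclS_resS (mU j)) hse F q).epi_f
      ((hz (q + 1)).eq_of_tgt _ _)
  have hi : IsIso ((NatTrans.rightDerived (resS (mU j)) q).app F) := isIso_of_mono_of_epi _
  obtain ⟨e1⟩ := H_rightDerived X F q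
  obtain ⟨e2⟩ := card_ev j F q
  exact ⟨e1.toEquiv.trans (((asIso ((NatTrans.rightDerived (resS (mU j)) q).app
    F)).addCommGroupIsoToAddEquiv.toEquiv).trans e2)⟩

end les

section stalk

variable {X U : Scheme.{u}} (j : U ⟶ X) [IsOpenImmersion j] (F : EtCoh.Ab X)
  {Ω : Type u} [Field Ω] [IsSepClosed Ω] (ξ : Spec (CommRingCat.of Ω) ⟶ X)

/-- Vanishing of the stalks of the local cohomology sheaves. -/
theorem isZero_stalk_locCoh (h0 : IsIso ((EtCoh.stalk ξ).map (EtDual.unitApp j F)))
    (h1 : ∀ p, 1 ≤ p → IsZero ((EtCoh.Rpush j p).obj ((EtCoh.pull j).obj F))) (q : ℕ) :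
    IsZero ((EtCoh.stalk ξ).obj ((EtDual.locCoh j q).obj F)) := by
  obtain _ | _ | n := q
  · have h2 : IsZero ((EtCoh.stalk ξ).obj (kernel (EtDual.unitApp j F))) :=
      Etrest.SmoothProper1.isZero_kernel_of_isIso (EtCoh.stalk ξ) (EtDual.unitApp j F)
    exact h2.of_iso ((EtCoh.stalk ξ).mapIso ((LocCohLES.locCohZeroIso j).app F))
  · -- `locCoh j 1 F` is the cokernel of the unit
    have hex := (LocCohLES.exact₀ j F).map (EtCoh.stalk ξ)
    have he : Epi ((EtCoh.stalk ξ).map (LocCohLES.δ₀ j F)) := inferInstance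
    have hz : (EtCoh.stalk ξ).map (LocCohLES.δ₀ j F) = 0 := by
      have h3 : (EtCoh.stalk ξ).map (EtDual.unitApp j F) ≫ (EtCoh.stalk ξ).map (LocCohLES.δ₀ j F) = 0 := by
        rw [← Functor.map_comp, LocCohLES.unit_δ₀, Functor.map_zero]
      rw [← cancel_epi ((EtCoh.stalk ξ).map (EtDual.unitApp j F)), h3, comp_zero]
    exact IsZero.of_epi_eq_zero _ hz
  · have h2 := (EtCoh.stalk ξ).map_isZero (h1 (n + 1) (by omega))
    exact h2.of_iso ((EtCoh.stalk ξ).mapIso (LocCohLES.locCohSuccIso j F n).symm)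

end stalk

section main

variable (R : Type u) [CommRing R] [HenselianLocalRing R] [IsSepClosed (IsLocalRing.ResidueField R)]
  {Ω : Type u} [Field Ω] [IsSepClosed Ω] (t : Spec (CommRingCat.of Ω) ⟶ Spec (CommRingCat.of R))
  [IsOpenImmersion t]
  {X Y : Scheme.{u}} (f : X ⟶ Spec (CommRingCat.of R)) (w : Y ⟶ X) [IsOpenImmersion w]
  (e : Y ⟶ Spec (CommRingCat.of Ω)) (hc : IsPullback e w t f)
  (N : ℕ) (hN : IsUnit (N : Γ(Spec (CommRingCat.of R), ⊤)))

include hc hN in
/-- The local cohomology sheaves vanish near the closed fibre, if `X` is smooth and `F` is finite locally constant. -/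
theorem isZero_stalk_locCoh_smooth [Smooth f] (F : EtCoh.Ab X) (hF : EtCoh.IsFiniteLocallyConstant F)
    (hFN : EtCoh.KilledBy N F) (x : X) (hx : f x = IsLocalRing.closedPoint R) (q : ℕ) :
    ∃ (Ω' : Type u) (_ : Field Ω') (_ : IsSepClosed Ω') (ξ : Spec (CommRingCat.of Ω') ⟶ X),
      ξ default = x ∧ IsZero ((EtCoh.stalk ξ).obj ((EtDual.locCoh w q).obj F)) := by
  have : QuasiCompact t := inferInstance
  have : QuasiSeparated t := inferInstance
  obtain ⟨Ω', _, _, ξ, hξ, hi⟩ := Etrest.UnitStalk.exists_isIso_stalk_unit R t f w e hc F hF N hN hFN x hx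
  refine ⟨Ω', inferInstance, inferInstance, ξ, hξ, ?_⟩
  exact isZero_stalk_locCoh w F ξ hi (fun p hp =>
    Etrest.SmoothProper1.isZero_Rpush_pull f t w e hc F hF N hN hFN p hp) q

include hc hN in
/-- The local cohomology sheaves vanish. -/
theorem isZero_locCoh (F : EtCoh.Ab X) (hFN : EtCoh.KilledBy N F)
    (hloc : ∀ x : X, f x = IsLocalRing.closedPoint R → ∃ (V : Scheme.{u}) (h : V ⟶ X) (_ : Etale h) (v : V),
      h v = x ∧ Smooth (h ≫ f) ∧ EtCoh.IsFiniteLocallyConstant ((EtCoh.pull h).obj F))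
    (ht : ∀ s : Spec (CommRingCat.of R), s ∉ Set.range t → s = IsLocalRing.closedPoint R) (q : ℕ) :
    IsZero ((EtDual.locCoh w q).obj F) := by
  refine Etcore.Stalks.isZero_of_stalks _ fun x => ?_
  by_cases hx : x ∈ Set.range w
  · refine ⟨_, inferInstance, inferInstance, geom x, geom_default x, ?_⟩
    exact isZero_stalk_of_range w _ (isZero_pull_locCoh w q F) (geom x) (by rwa [geom_default])
  · have hx1 : f x = IsLocalRing.closedPoint R := by
      refine ht _ ?_
      rintro ⟨τ, hτ⟩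
      apply hx
      obtain ⟨y, -, hy⟩ := Scheme.exists_preimage_of_isPullback hc τ x hτ
      exact ⟨y, hy⟩
    obtain ⟨V, h, _, v, hv, hs, hflc⟩ := hloc x hx1
    let w' : pullback w h ⟶ V := pullback.snd w h
    have sq : IsPullback (pullback.fst w h) w' w h := IsPullback.of_hasPullback w h
    have hc' : IsPullback (pullback.fst w h ≫ e) w' t (h ≫ f) := sq.paste_horiz hc
    have hk : EtCoh.KilledBy N ((EtCoh.pull h).obj F) := by
      have : (EtCoh.pull h).Additive := inferInstance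
      exact EtpbcB.TorsionBasic.killedBy_map _ N _ hFN
    obtain ⟨Ω', _, _, ξ, hξ, hz⟩ := isZero_stalk_locCoh_smooth R t (h ≫ f) w' _ hc' N hN
      ((EtCoh.pull h).obj F) hflc hk v (by rw [Scheme.Hom.comp_apply, hv, hx1]) q
    refine ⟨Ω', inferInstance, inferInstance, ξ ≫ h, by rw [Scheme.Hom.comp_apply, hξ, hv], ?_⟩
    have := EtaleRes.jCont h
    exact hz.of_iso ((stalkPullIso h ξ).app _ ≪≫
      (EtCoh.stalk ξ).mapIso ((EtaleRes.pullIsoRestr h).app _ ≪≫
        (LocCohLocal.locCohRestrIso sq q).app F ≪≫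
        (EtDual.locCoh w' q).mapIso ((EtaleRes.pullIsoRestr h).app F).symm))

include hc hN in
/-- The cohomology of `X` is that of the geometric generic fibre. -/
theorem nonempty_H_generic (F : EtCoh.Ab X) (hFN : EtCoh.KilledBy N F)
    (hloc : ∀ x : X, f x = IsLocalRing.closedPoint R → ∃ (V : Scheme.{u}) (h : V ⟶ X) (_ : Etale h) (v : V),
      h v = x ∧ Smooth (h ≫ f) ∧ EtCoh.IsFiniteLocallyConstant ((EtCoh.pull h).obj F))
    (ht : ∀ s : Spec (CommRingCat.of R), s ∉ Set.range t → s = IsLocalRing.closedPoint R) (q : ℕ) :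
    Nonempty (EtCoh.H X F q ≃ EtCoh.H Y ((EtCoh.pull w).obj F) q) :=
  nonempty_H_equiv w F (fun n => isZero_locCoh R t f w e hc N hN F hFN hloc ht n) q

end main

end Groth.Agent.Sga5.H853.Acyc
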