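import Groth.Agent.Sga5.H853.CaseTwo
import Groth.Agent.Sga5.H853.BaseRing
import Groth.Agent.Etrest.IsoInv
import Groth.Agent.S0166
import Groth.Agent.S0101

/-!
# Combining the two deformations
-/

set_option autoImplicit false
universe u
open CategoryTheory CategoryTheory.Limits AlgebraicGeometry Opposite

namespace Groth.Agent.Sga5.H853.AtInf

open P1 Groth.Agent.CycB.P1Chart Groth.Agent.EtpbcA.P1Charts Groth.Agent.Sga4B.P1Geom
  Groth.Agent.Sga5.H853.FamB Groth.Agent.Sga5.H853.CountLES Groth.Agent.Sga5.H853.LocCmp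
  Groth.Agent.Etrest.FLCTors Groth.Agent.EtpbcA Groth.Agent.Sga5.H853.Family
  Groth.Agent.Sga4B.P1Transl Groth.Agent.Sga5.H853.CaseOne Groth.Agent.Sga5.H853.Mu
  Groth.Agent.Sga5.H853.CaseTwo

theorem chi_isIso {X Y : Scheme.{u}} (f : X ⟶ Y) [IsIso f] (F : EtCoh.Ab Y) :
    chi X ((EtCoh.pull f).obj F) = chi Y F :=
  Special.chi_of_equiv fun q => ⟨(Etrest.IsoInv.HIso f F q).symm.toEquiv⟩

/-- Invariance under change of the algebraically closed base field. -/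
theorem chi_base {k : Type u} [Field k] [IsSepClosed k] {Ω : Type u} [Field Ω] [IsSepClosed Ω] (ι : k →+* Ω)
    (F : EtCoh.Ab (PP (CommRingCat.of k))) (hF : EtCoh.IsTorsion F) :
    chi (PP (CommRingCat.of Ω)) ((EtCoh.pull (toP1 (Spec.map (CommRingCat.ofHom ι)))).obj F) =
      chi (PP (CommRingCat.of k)) F := by
  let a := toB (CommRingCat.of k)
  let g := Spec.map (CommRingCat.ofHom ι)
  let e := (isPullback_toP1 g).isoPullback
  have he : e.hom ≫ pullback.fst a g = toP1 g := (isPullback_toP1 g).isoPullback_hom_fst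
  have := Groth.Agent.S0101.result (pullback.fst a g)
  rw [← chi_of_iso (pp e.hom (pullback.fst a g) _ he F), chi_isIso]
  refine (Special.chi_of_equiv fun q => ?_).symm
  obtain ⟨e'⟩ := Groth.Agent.S0166.result ι (PP (CommRingCat.of k)) a F hF q
  exact ⟨e'.toEquiv⟩

theorem chi_generic {k : Type u} [Field k] [IsSepClosed k] {Ω : Type u} [Field Ω] [IsSepClosed Ω] (ι : k →+* Ω)
    (F : EtCoh.Ab (PP (CommRingCat.of k))) (hF : EtCoh.IsTorsion F) (i : Fin (1 + 1)) (s : Ω) :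
    chi (Fam (𝟙 (PP (CommRingCat.of k))) (Spec.map (CommRingCat.ofHom ι)))
      ((EtCoh.pull (toP (𝟙 (PP (CommRingCat.of k))) (Spec.map (CommRingCat.ofHom ι)) ≫
        transl i (CommRingCat.of Ω) s ≫ toP1 (Spec.map (CommRingCat.ofHom ι)))).obj F) =
      chi (PP (CommRingCat.of k)) F := by
  have hD : IsDomain (CommRingCat.of Ω) := inferInstanceAs (IsDomain Ω)
  have h1 : IsIso (toP (𝟙 (PP (CommRingCat.of k))) (Spec.map (CommRingCat.ofHom ι))) :=
    (isPullback_toY_toP (𝟙 (PP (CommRingCat.of k))) (Spec.map (CommRingCat.ofHom ι))).isIso_snd_of_isIso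
  rw [← chi_base ι F hF, ← chi_isIso (toP (𝟙 (PP (CommRingCat.of k))) (Spec.map (CommRingCat.ofHom ι)) ≫
    transl i (CommRingCat.of Ω) s)]
  exact (chi_of_iso (pp _ _ _ (Category.assoc _ _ _) F)).symm

theorem closedPoint_notMem {R : Type u} [CommRing R] [IsLocalRing R] {Ω : Type u} [Field Ω] (ψ : R →+* Ω) (σ : R)
    (hσ : σ ∈ IsLocalRing.maximalIdeal R) (h : ψ σ ≠ 0) (x : Spec (CommRingCat.of Ω)) :
    Spec.map (CommRingCat.ofHom ψ) x ≠ IsLocalRing.closedPoint R := by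
  intro hx
  have h1 : σ ∈ (Spec.map (CommRingCat.ofHom ψ) x).asIdeal := by
    rw [hx]
    exact hσ
  have h2 : ψ σ ∈ x.asIdeal := h1
  exact x.2.ne_top (Ideal.eq_top_of_isUnit_mem _ h2 (IsUnit.mk0 _ h))

theorem isUnit_of {k : Type u} [Field k] {R : Type u} [CommRing R] (i : k →+* R) (N : ℕ) (hN : (N : k) ≠ 0) :
    IsUnit (N : Γ(Spec (CommRingCat.of R), ⊤)) := by
  have h1 : IsUnit (N : R) := by
    have := (IsUnit.mk0 _ hN).map i
    rwa [map_natCast] at this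
  have h2 := h1.map (Scheme.ΓSpecIso (CommRingCat.of R)).inv.hom
  rwa [map_natCast] at h2

variable {k : Type u} [Field k] [IsAlgClosed k] (i : Fin (1 + 1))
  {Y : Scheme.{u}} (h : Y ⟶ PP (CommRingCat.of k)) [IsFinite h]
  (N : ℕ) (hN : (N : k) ≠ 0)
  (W : Y.Opens) [Etale (W.ι ≫ h)] (hWf : ((W : Set Y)ᶜ).Finite) (hWc : ∀ y, y ∉ W → IsClosed ({y} : Set Y))
  (hf : {y : Y | h y ∉ Set.range (chart i (CommRingCat.of k))}.Finite)
  (hc : ∀ y : Y, h y ∉ Set.range (chart i (CommRingCat.of k)) → IsClosed ({y} : Set Y))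
  (hWi : ∀ y : Y, h y ∉ Set.range (chart i (CommRingCat.of k)) → y ∈ W)
  (L : (PP (CommRingCat.of k)).Opens)
  (hLf : {y : Y | h y ∉ L}.Finite) (hLc : ∀ y : Y, h y ∉ L → IsClosed ({y} : Set Y))
  (hLi : ∀ y : PP (CommRingCat.of k), y ∉ Set.range (chart i (CommRingCat.of k)) → y ∈ L)
  (hne : ∃ y : Y, h y ∉ Set.range (chart i (CommRingCat.of k)))
  (A₁ A₂ : EtCoh.Ab (PP (CommRingCat.of k)))
  (hA₁ : EtCoh.KilledBy N A₁) (hA₂ : EtCoh.KilledBy N A₂)
  (hAc₁ : EtPBC.IsConstructible A₁) (hAc₂ : EtPBC.IsConstructible A₂)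
  (hL₁ : EtCoh.IsFiniteLocallyConstant ((EtCoh.pull L.ι).obj A₁))
  (hL₂ : EtCoh.IsFiniteLocallyConstant ((EtCoh.pull L.ι).obj A₂))
  (hA : EtLoc A₁ A₂) (φW : (EtCoh.pull (W.ι ≫ h)).obj A₁ ≅ (EtCoh.pull (W.ι ≫ h)).obj A₂)

omit [IsAlgClosed k] in
theorem notMem_range_unique (i : Fin (1 + 1)) (y y' : PP (CommRingCat.of k))
    (hy : y ∉ Set.range (chart i (CommRingCat.of k))) (hy' : y' ∉ Set.range (chart i (CommRingCat.of k))) :
    y = y' :=
  eq_of_notMem_range i _ y y' hy hy' (Subsingleton.elim (α := Spec (CommRingCat.of k)) _ _)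

omit [IsAlgClosed k] in
theorem finite_notMem (i : Fin (1 + 1)) :
    {y : PP (CommRingCat.of k) | (𝟙 (PP (CommRingCat.of k)) : _ ⟶ _) y ∉
      Set.range (chart i (CommRingCat.of k))}.Finite := by
  apply Set.Subsingleton.finite
  intro y hy y' hy'
  exact notMem_range_unique i y y' hy hy'

include hN hWf hWc hf hc hWi hLf hLc hLi hne hA₁ hA₂ hAc₁ hAc₂ hL₁ hL₂ hA φW in
theorem at_infinity : chi (PP (CommRingCat.of k)) A₁ = chi (PP (CommRingCat.of k)) A₂ := by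
  have hN0 : 0 < N := Nat.pos_of_ne_zero (by rintro rfl; exact hN Nat.cast_zero)
  obtain ⟨Ω, _, _, ι, s, hs, T1, T2⟩ := BaseRing.exists_two_traits k
  have hT₁ : EtCoh.IsTorsion A₁ := EtpbcB.TorsionBasic.isTorsion_of_killedBy hN0 hA₁
  have hT₂ : EtCoh.IsTorsion A₂ := EtpbcB.TorsionBasic.isTorsion_of_killedBy hN0 hA₂
  -- first deformation
  have key1 : 0 < chi (Fam h (Spec.map (CommRingCat.ofHom ι)))
        ((EtCoh.pull (toP h (Spec.map (CommRingCat.ofHom ι)) ≫ transl i (CommRingCat.of Ω) s ≫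
          toP1 (Spec.map (CommRingCat.ofHom ι)))).obj A₁) ∧
      chi (Fam h (Spec.map (CommRingCat.ofHom ι)))
        ((EtCoh.pull (toP h (Spec.map (CommRingCat.ofHom ι)) ≫ transl i (CommRingCat.of Ω) s ≫
          toP1 (Spec.map (CommRingCat.ofHom ι)))).obj A₁) =
      chi (Fam h (Spec.map (CommRingCat.ofHom ι)))
        ((EtCoh.pull (toP h (Spec.map (CommRingCat.ofHom ι)) ≫ transl i (CommRingCat.of Ω) s ≫
          toP1 (Spec.map (CommRingCat.ofHom ι)))).obj A₂) := by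
    obtain ⟨R, _, _, _, _, j, ψ, σ, h1, h2, h3, h4, h5⟩ := T1
    have h6 := closedPoint_notMem ψ σ h3 (by rw [h2]; exact hs)
    have h7 := caseOne R (Spec.map (CommRingCat.ofHom j)) h A₁ A₂ i ψ h6 h5 σ h3 N (isUnit_of j N hN) hN0
      W hWf hWc L hLf hLc hA₁ hA₂ hAc₁ hAc₂ hL₁ hL₂ hA φW (Spec.map (CommRingCat.ofHom ι)) (by
        rw [← Spec.map_comp, ← CommRingCat.ofHom_comp, h1])
    rwa [h2] at h7
  obtain ⟨R, _, _, _, _, j, ψ, σ, h1, h2, h3, h4, h5⟩ := T2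
  have hσ : ψ σ ≠ 0 := by
    rw [h2]
    exact inv_ne_zero hs
  have h6 := closedPoint_notMem ψ σ h3 hσ
  have hb : Spec.map (CommRingCat.ofHom ψ) ≫ Spec.map (CommRingCat.ofHom j) =
      Spec.map (CommRingCat.ofHom ι) := by
    rw [← Spec.map_comp, ← CommRingCat.ofHom_comp, h1]
  obtain ⟨n, hn1, hn2, c1, key2⟩ := caseTwo R (Spec.map (CommRingCat.ofHom j)) h A₁ A₂ i ψ h6 h5 σ h3 hσ N
    (isUnit_of j N hN) hN0 W hWf hWc hf hc hWi L hLi hA₁ hA₂ hAc₁ hAc₂ hL₁ hL₂ hA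
    (Spec.map (CommRingCat.ofHom ι)) hb
  have he : Etale ((⊤ : (PP (CommRingCat.of k)).Opens).ι ≫ 𝟙 (PP (CommRingCat.of k))) := inferInstance
  obtain ⟨n', -, hn2', -, key3⟩ := caseTwo R (Spec.map (CommRingCat.ofHom j)) (𝟙 (PP (CommRingCat.of k)))
    A₁ A₂ i ψ h6 h5 σ h3 hσ N
    (isUnit_of j N hN) hN0 ⊤ (by
      have : (((⊤ : (PP (CommRingCat.of k)).Opens) : Set (PP (CommRingCat.of k))))ᶜ = ∅ := by simp
      rw [this]
      exact Set.finite_empty) (fun y hy => absurd trivial hy) (finite_notMem i) (fun y hy =>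
        isClosed_of_notMem_range i _ y hy (by
          have : ({toB (CommRingCat.of k) y} : Set (Spec (CommRingCat.of k))) = Set.univ :=
            Set.eq_univ_of_forall fun x => Subsingleton.elim (α := Spec (CommRingCat.of k)) _ _
          rw [this]
          exact isClosed_univ))
    (fun _ _ => trivial) L hLi hA₁ hA₂ hAc₁ hAc₂ hL₁ hL₂ hA
    (Spec.map (CommRingCat.ofHom ι)) hb
  rw [h2, inv_inv] at c1 key2 key3
  rw [chi_generic ι A₁ hT₁, chi_generic ι A₂ hT₂] at key3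
  obtain ⟨y, hy⟩ := hne
  have hn := hn1 y hy
  obtain ⟨p1, p2⟩ := hn2 hn
  rw [← key1.2] at key2
  have h7 := mul_right_cancel₀ key1.1.ne' key2
  have h8 := (pow_left_inj₀ p1.le p2.le hn).1 h7
  rw [h8] at key3
  exact mul_left_cancel₀ (pow_pos p2 n').ne' key3

end Groth.Agent.Sga5.H853.AtInf
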