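import Groth.Agent.Sga5.H853.Family

/-!
# The first deformation: small translations
-/

set_option autoImplicit false
universe u
open CategoryTheory CategoryTheory.Limits AlgebraicGeometry Opposite

namespace Groth.Agent.Sga5.H853.CaseOne

open P1 Groth.Agent.CycB.P1Chart Groth.Agent.EtpbcA.P1Charts Groth.Agent.Sga4B.P1Geom
  Groth.Agent.Sga5.H853.FamB Groth.Agent.Sga5.H853.CountLES Groth.Agent.Sga5.H853.LocCmp
  Groth.Agent.Etrest.FLCTors Groth.Agent.EtpbcA Groth.Agent.Sga5.H853.Family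
  Groth.Agent.Sga4B.P1Transl

/-- `A₁` and `A₂` are locally isomorphic for the etale topology. -/
def EtLoc {P : Scheme.{u}} (A₁ A₂ : EtCoh.Ab P) : Prop :=
  ∀ p : P, ∃ (D : Scheme.{u}) (d : D ⟶ P) (_ : Etale d) (v : D), d v = p ∧
    Nonempty ((EtCoh.pull d).obj A₁ ≅ (EtCoh.pull d).obj A₂)

section localterm

/-- Comparison of local terms at points where the sheaves are locally isomorphic. -/
theorem lamE_eq {X U U' O P : Scheme.{u}} {j : U ⟶ X} [IsOpenImmersion j] {ν : U ⟶ P} {o : O ⟶ X} [Etale o]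
    {ψ : O ⟶ P} {u' : U' ⟶ U} {j' : U' ⟶ O} [IsOpenImmersion j'] (sq : IsPullback u' j' j o)
    (hν : u' ≫ ν = j' ≫ ψ) {A₁ A₂ : EtCoh.Ab P} (hA : EtLoc A₁ A₂) (x : O)
    {Ω : Type u} [Field Ω] [IsSepClosed Ω] (ξ : Spec (CommRingCat.of Ω) ⟶ X) (hξ : ξ default = o x) :
    lamE j ((EtCoh.pull ν).obj A₁) ξ = lamE j ((EtCoh.pull ν).obj A₂) ξ := by
  obtain ⟨D, d, _, v, hv, ⟨φ⟩⟩ := hA (ψ x)
  obtain ⟨y, hy1, hy2⟩ := Scheme.Pullback.exists_preimage_pullback (f := ψ) (g := d) x v hv.symm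
  let V := pullback ψ d
  let a : V ⟶ O := pullback.fst ψ d
  let c : V ⟶ D := pullback.snd ψ d
  have hac : a ≫ ψ = c ≫ d := pullback.condition
  let U'' := pullback j' a
  let a' : U'' ⟶ U' := pullback.fst j' a
  let j'' : U'' ⟶ V := pullback.snd j' a
  have hj'' : IsOpenImmersion j'' := inferInstanceAs (IsOpenImmersion (pullback.snd j' a))
  have sq2 : IsPullback a' j'' j' a := IsPullback.of_hasPullback j' a
  have sq3 : IsPullback (a' ≫ u') j'' j (a ≫ o) := sq2.paste_horiz sq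
  have e1 : (a' ≫ u') ≫ ν = (j'' ≫ c) ≫ d := by
    rw [Category.assoc, hν, sq2.w_assoc, hac, Category.assoc]
  refine lamE_compare sq3 sq3 _ _ ?_ ξ ξ y ?_ ?_
  · exact pp (a' ≫ u') ν _ e1 A₁ ≪≫ (pp (j'' ≫ c) d _ rfl A₁).symm ≪≫
      (EtCoh.pull (j'' ≫ c)).mapIso φ ≪≫ pp (j'' ≫ c) d _ rfl A₂ ≪≫ (pp (a' ≫ u') ν _ e1 A₂).symm
  · rw [hξ, Scheme.Hom.comp_apply]
    exact congrArg o hy1
  · rw [hξ, Scheme.Hom.comp_apply]
    exact congrArg o hy1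

end localterm

variable {k : Type u} [Field k] [IsAlgClosed k]
  (R : Type u) [CommRing R] [HenselianLocalRing R] [IsAlgClosed (IsLocalRing.ResidueField R)]
  (b : Spec (CommRingCat.of R) ⟶ Spec (CommRingCat.of k))
  {Y : Scheme.{u}} (h : Y ⟶ PP (CommRingCat.of k)) [IsFinite h]
  (F₀ : Set Y) (hF₀ : F₀.Finite) (hF₀c : ∀ y ∈ F₀, IsClosed ({y} : Set Y))
  {Q : Scheme.{u}} (q : Q ⟶ PP (CommRingCat.of R)) [IsOpenImmersion q]
  (hbad : ∀ x : Fam h b, toP h b x ∉ Set.range q → toS h b x = IsLocalRing.closedPoint R ∧ toY h b x ∈ F₀)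
  (μ : Q ⟶ PP (CommRingCat.of k))
  (A₁ A₂ : EtCoh.Ab (PP (CommRingCat.of k)))

/-- Local terms at points mapping to `Q`. -/
theorem lamE_good (hA : EtLoc A₁ A₂) (z : Fam h b) (hz : toP h b z ∈ Set.range q) :
    lamE (U R b h F₀ hF₀ hF₀c).ι ((EtCoh.pull (l R b h F₀ hF₀ hF₀c q hbad ≫ μ)).obj A₁) (geom z) =
    lamE (U R b h F₀ hF₀ hF₀c).ι ((EtCoh.pull (l R b h F₀ hF₀ hF₀c q hbad ≫ μ)).obj A₂) (geom z) := by
  let UU := U R b h F₀ hF₀ hF₀c
  let ll := l R b h F₀ hF₀ hF₀c q hbad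
  let o : pullback (toP h b) q ⟶ Fam h b := pullback.fst (toP h b) q
  let s : pullback (toP h b) q ⟶ Q := pullback.snd (toP h b) q
  let w : UU.toScheme ⟶ pullback (toP h b) q := pullback.lift UU.ι ll (l_q R b h F₀ hF₀ hF₀c q hbad).symm
  have hwo : w ≫ o = UU.ι := pullback.lift_fst _ _ _
  have hws : w ≫ s = ll := pullback.lift_snd _ _ _
  have ho : IsOpenImmersion o := inferInstanceAs (IsOpenImmersion (pullback.fst (toP h b) q))
  have hw : IsOpenImmersion w := by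
    have : IsOpenImmersion (w ≫ o) := by rw [hwo]; infer_instance
    exact IsOpenImmersion.of_comp w o
  obtain ⟨z', hz'⟩ := hz
  obtain ⟨x, hx1, -⟩ := Scheme.Pullback.exists_preimage_pullback (f := toP h b) (g := q) z z' hz'.symm
  refine lamE_eq (isPullback_of_mono hwo).flip (ψ := s ≫ μ) ?_ hA x (geom z) ?_
  · rw [Category.id_comp, ← Category.assoc, hws]
  · rw [LocTerm.geom_default]
    exact hx1.symm

theorem toP1_comp {S S' S'' : Scheme.{u}} (f : S ⟶ S') (g : S' ⟶ S'') : toP1 f ≫ toP1 g = toP1 (f ≫ g) := by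
  apply hom_ext
  · rw [Category.assoc, toP1_toZ, toP1_toZ, toP1_toZ]
  · rw [Category.assoc, toP1_toBase, toP1_toBase, toP1_toBase_assoc]

section caseOne

variable {Ω : Type u} [Field Ω] [IsAlgClosed Ω] [IsDomain R] (i : Fin (1 + 1)) (ψ : R →+* Ω)
  [IsOpenImmersion (Spec.map (CommRingCat.ofHom ψ))]
  (htc : ∀ x, Spec.map (CommRingCat.ofHom ψ) x ≠ IsLocalRing.closedPoint R)
  (ht : ∀ s : Spec (CommRingCat.of R), s ∉ Set.range (Spec.map (CommRingCat.ofHom ψ)) →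
    s = IsLocalRing.closedPoint R)
  (σ : R) (hσ : σ ∈ IsLocalRing.maximalIdeal R)
  (N : ℕ) (hN : IsUnit (N : Γ(Spec (CommRingCat.of R), ⊤))) (hN0 : 0 < N)
  (W : Y.Opens) [Etale (W.ι ≫ h)] (hWf : ((W : Set Y)ᶜ).Finite) (hWc : ∀ y, y ∉ W → IsClosed ({y} : Set Y))
  (L : (PP (CommRingCat.of k)).Opens) (hLf : {y : Y | h y ∉ L}.Finite)
  (hLc : ∀ y : Y, h y ∉ L → IsClosed ({y} : Set Y))
  (hA₁ : EtCoh.KilledBy N A₁) (hA₂ : EtCoh.KilledBy N A₂)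
  (hAc₁ : EtPBC.IsConstructible A₁) (hAc₂ : EtPBC.IsConstructible A₂)
  (hL₁ : EtCoh.IsFiniteLocallyConstant ((EtCoh.pull L.ι).obj A₁))
  (hL₂ : EtCoh.IsFiniteLocallyConstant ((EtCoh.pull L.ι).obj A₂))
  (hA : EtLoc A₁ A₂) (φW : (EtCoh.pull (W.ι ≫ h)).obj A₁ ≅ (EtCoh.pull (W.ι ≫ h)).obj A₂)

include hσ in
omit [IsDomain R] in
/-- On the closed fibre, small translations are the identity. -/
theorem transl_special {Z : Scheme.{u}} (z : Z ⟶ PP (CommRingCat.of R))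
    (e : Z ⟶ Spec (CommRingCat.of (IsLocalRing.ResidueField R)))
    (hz : z ≫ toB (CommRingCat.of R) = e ≫ rr R) : z ≫ transl i (CommRingCat.of R) σ = z := by
  let z₀ : Z ⟶ PP (CommRingCat.of (IsLocalRing.ResidueField R)) :=
    (isPullback_toP1 (rr R)).lift z e hz
  have hz₀ : z₀ ≫ toP1 (rr R) = z := (isPullback_toP1 (rr R)).lift_fst _ _ _
  have hD : IsDomain (CommRingCat.of (IsLocalRing.ResidueField R)) :=
    inferInstanceAs (IsDomain (IsLocalRing.ResidueField R))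
  have h1 := transl_toP1 i (CommRingCat.of R) (CommRingCat.ofHom (IsLocalRing.residue R)) σ
  have h2 : (CommRingCat.ofHom (IsLocalRing.residue R)).hom σ = 0 :=
    (IsLocalRing.residue_eq_zero_iff σ).2 hσ
  rw [h2, transl_zero, Category.id_comp] at h1
  rw [← hz₀, Category.assoc]
  exact congrArg (fun t => z₀ ≫ t) h1

include htc ht hσ hN hN0 hWf hWc hLf hLc hA₁ hA₂ hAc₁ hAc₂ hL₁ hL₂ hA φW in
/-- **Case I** -/
theorem caseOne (bΩ : Spec (CommRingCat.of Ω) ⟶ Spec (CommRingCat.of k))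
    (hbΩ : Spec.map (CommRingCat.ofHom ψ) ≫ b = bΩ) :
    0 < chi (Fam h bΩ) ((EtCoh.pull (toP h bΩ ≫ transl i (CommRingCat.of Ω) (ψ σ) ≫ toP1 bΩ)).obj A₁) ∧
    chi (Fam h bΩ) ((EtCoh.pull (toP h bΩ ≫ transl i (CommRingCat.of Ω) (ψ σ) ≫ toP1 bΩ)).obj A₁) =
    chi (Fam h bΩ) ((EtCoh.pull (toP h bΩ ≫ transl i (CommRingCat.of Ω) (ψ σ) ≫ toP1 bΩ)).obj A₂) := by
  subst hbΩ
  let F₀ : Set Y := (W : Set Y)ᶜ ∪ {y : Y | h y ∉ L}
  have hF₀ : F₀.Finite := hWf.union hLf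
  have hF₀c : ∀ y ∈ F₀, IsClosed ({y} : Set Y) := by
    rintro y (hy | hy)
    · exact hWc y hy
    · exact hLc y hy
  have hF₀W : ∀ y, y ∉ F₀ → y ∈ W := by
    intro y hy
    by_contra hyW
    exact hy (Or.inl hyW)
  have hF₀L : ∀ y, y ∉ F₀ → h y ∈ L := by
    intro y hy
    by_contra hyW
    exact hy (Or.inr hyW)
  let q : PP (CommRingCat.of R) ⟶ PP (CommRingCat.of R) := 𝟙 _
  let μ : PP (CommRingCat.of R) ⟶ PP (CommRingCat.of k) := transl i (CommRingCat.of R) σ ≫ toP1 b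
  have hbad : ∀ x : Fam h b, toP h b x ∉ Set.range q →
      toS h b x = IsLocalRing.closedPoint R ∧ toY h b x ∈ F₀ := fun x hx => absurd ⟨toP h b x, rfl⟩ hx
  have hsp : ∀ (Z : Scheme.{u}) (z : Z ⟶ PP (CommRingCat.of R)) (y : Z ⟶ Y)
      (e : Z ⟶ Spec (CommRingCat.of (IsLocalRing.ResidueField R))),
      z ≫ q ≫ toB (CommRingCat.of R) = e ≫ rr R → y ≫ h = z ≫ q ≫ toP1 b → (∀ p, y p ∉ F₀) →
      (∀ p : Z, (z ≫ μ) p ∈ L) ∧
        Nonempty ((EtCoh.pull (z ≫ μ)).obj A₁ ≅ (EtCoh.pull (z ≫ μ)).obj A₂) := by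
    intro Z z y e h1 h2 h3
    have h4 : z ≫ μ = y ≫ h := by
      rw [h2]
      change z ≫ transl i (CommRingCat.of R) σ ≫ toP1 b = z ≫ 𝟙 _ ≫ toP1 b
      rw [Category.id_comp, ← Category.assoc, transl_special R i σ hσ z e (by
        rw [← h1]
        change z ≫ _ = z ≫ 𝟙 _ ≫ _
        rw [Category.id_comp])]
    constructor
    · intro p
      rw [h4]
      exact hF₀L _ (h3 p)
    · let y' : Z ⟶ W.toScheme := IsOpenImmersion.lift W.ι y (by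
        rintro _ ⟨p, rfl⟩
        rw [Scheme.Opens.range_ι]
        exact hF₀W _ (h3 p))
      have hy' : y' ≫ W.ι = y := IsOpenImmersion.lift_fac _ _ _
      have h5 : y' ≫ W.ι ≫ h = z ≫ μ := by rw [h4, ← Category.assoc, hy']
      exact ⟨(pp y' (W.ι ≫ h) _ h5 A₁).symm ≪≫ (EtCoh.pull y').mapIso φW ≪≫ pp y' (W.ι ≫ h) _ h5 A₂⟩
  obtain ⟨p1, -, c1, -, key⟩ := family R b (Spec.map (CommRingCat.ofHom ψ)) h F₀ hF₀ hF₀c htc ht N hN hN0 W
    hF₀W q hbad (toP1 (Spec.map (CommRingCat.ofHom ψ))) (Category.comp_id _) μ L A₁ A₂ hA₁ hA₂ hAc₁ hAc₂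
    hL₁ hL₂ hsp
  have hD : IsDomain (CommRingCat.of Ω) := inferInstanceAs (IsDomain Ω)
  have hμ : toP1 (Spec.map (CommRingCat.ofHom ψ)) ≫ μ = transl i (CommRingCat.of Ω) (ψ σ) ≫
      toP1 (Spec.map (CommRingCat.ofHom ψ) ≫ b) := by
    have h1 := transl_toP1 i (CommRingCat.of R) (CommRingCat.ofHom ψ) σ
    change toP1 (Spec.map (CommRingCat.ofHom ψ)) ≫ transl i (CommRingCat.of R) σ ≫ toP1 b = _
    rw [← Category.assoc, h1, Category.assoc, toP1_comp]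
    rfl
  rw [hμ] at c1 key
  refine ⟨c1, ?_⟩
  have h2 : ∏ z ∈ bad R b h F₀ hF₀ hF₀c, lamE (U R b h F₀ hF₀ hF₀c).ι
      ((EtCoh.pull (l R b h F₀ hF₀ hF₀c q hbad ≫ μ)).obj A₂) (geom z) =
      ∏ z ∈ bad R b h F₀ hF₀ hF₀c, lamE (U R b h F₀ hF₀ hF₀c).ι
      ((EtCoh.pull (l R b h F₀ hF₀ hF₀c q hbad ≫ μ)).obj A₁) (geom z) :=
    Finset.prod_congr rfl fun z _ =>
      (lamE_good R b h F₀ hF₀ hF₀c q hbad μ A₁ A₂ hA z ⟨toP h b z, rfl⟩).symm
  rw [h2] at key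
  exact mul_left_cancel₀ (Finset.prod_pos p1).ne' key

end caseOne

end Groth.Agent.Sga5.H853.CaseOne
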