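import Groth.Agent.Sga5.H853.FamB
import Mathlib.RingTheory.LocalRing.ResidueField.Basic

/-!
# The degenerating translation

`R` a local ring, `σ ∈ 𝔪`, `ψ : R ⟶ Ω` with `ψ σ ≠ 0` and `Spec Ω ⟶ Spec R` an open immersion onto the complement of
the closed point.  `Q ⊆ P^1_R` the complement of the point at infinity of the closed fibre, and
`μ : Q ⟶ P^1`, `x ↦ x - 1/σ`.
-/

set_option autoImplicit false
universe u
open CategoryTheory CategoryTheory.Limits AlgebraicGeometry Opposite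

namespace Groth.Agent.Sga5.H853.Mu

open P1 Groth.Agent.CycB.P1Chart Groth.Agent.EtpbcA.P1Charts Groth.Agent.Sga4B.P1Geom
  Groth.Agent.Sga4B.P1Transl

variable (R : Type u) [CommRing R] (σ : R) (i : Fin (1 + 1))

/-- the element `σ X - 1` -/
noncomputable abbrev den : Polynomial R := Polynomial.C σ * Polynomial.X - 1

/-- the ring of `D` -/
abbrev DR : Type u := Localization.Away (den R σ)

/-- the open piece -/
noncomputable abbrev DD : Scheme.{u} := Spec (CommRingCat.of (DR R σ))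

/-- its inclusion in the affine line -/
noncomputable abbrev dι : DD R σ ⟶ AA (CommRingCat.of R) :=
  Spec.map (CommRingCat.ofHom (algebraMap (Polynomial R) (DR R σ)))

instance : IsOpenImmersion (dι R σ) :=
  inferInstanceAs (IsOpenImmersion (Spec.map (CommRingCat.ofHom (algebraMap (Polynomial R)
    (Localization.Away (den R σ))))))

/-- its inclusion in the projective line -/
noncomputable def d : DD R σ ⟶ PP (CommRingCat.of R) := dι R σ ≫ chart i (CommRingCat.of R)

instance : IsOpenImmersion (d R σ i) := by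
  unfold d
  infer_instance

/-- `σ / (σ X - 1)` -/
noncomputable def fr : DR R σ :=
  algebraMap (Polynomial R) (DR R σ) (Polynomial.C σ) * IsLocalization.Away.invSelf (den R σ)

theorem mul_fr : algebraMap (Polynomial R) (DR R σ) (den R σ) * fr R σ =
    algebraMap (Polynomial R) (DR R σ) (Polynomial.C σ) := by
  rw [fr, mul_left_comm, IsLocalization.Away.mul_invSelf, mul_one]

theorem mem_range_d (z : PP (CommRingCat.of R)) [IsLocalRing R] (hσ : σ ∈ IsLocalRing.maximalIdeal R)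
    (hz : z ∈ Set.range (chart i (CommRingCat.of R)))
    (hz2 : toB (CommRingCat.of R) z = IsLocalRing.closedPoint R) : z ∈ Set.range (d R σ i) := by
  obtain ⟨w, rfl⟩ := hz
  have h1 : w ∈ Set.range (dι R σ) := by
    have := PrimeSpectrum.localization_away_comap_range (DR R σ) (den R σ)
    change w ∈ Set.range (PrimeSpectrum.comap (algebraMap (Polynomial R) (DR R σ)))
    rw [this]
    change (den R σ) ∉ w.asIdeal
    intro h
    apply w.2.ne_top
    rw [Ideal.eq_top_iff_one]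
    have h2 : (Polynomial.C σ : Polynomial R) ∈ w.asIdeal := by
      have h3 : pr (CommRingCat.of R) w = IsLocalRing.closedPoint R := by
        rw [← chart_toB i (CommRingCat.of R), Scheme.Hom.comp_apply]
        exact hz2
      have h4 : σ ∈ (pr (CommRingCat.of R) w).asIdeal := by
        rw [h3]
        exact hσ
      exact h4
    have := sub_mem (Ideal.mul_mem_right Polynomial.X _ h2) h
    simpa using this
  obtain ⟨v, rfl⟩ := h1
  exact ⟨v, rfl⟩

variable {Ω : Type u} [Field Ω] (t : Spec (CommRingCat.of Ω) ⟶ Spec (CommRingCat.of R)) [IsOpenImmersion t]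

instance : IsOpenImmersion (toP1 t) :=
  MorphismProperty.of_isPullback (isPullback_toP1 t).flip inferInstance

/-- the open subscheme -/
noncomputable def Q : (PP (CommRingCat.of R)).Opens := (d R σ i).opensRange ⊔ (toP1 t).opensRange

theorem mem_Q (z : PP (CommRingCat.of R)) :
    z ∈ Q R σ i t ↔ z ∈ Set.range (d R σ i) ∨ z ∈ Set.range (toP1 t) := Iff.rfl

theorem mem_range_toP1 (z : PP (CommRingCat.of R)) :
    z ∈ Set.range (toP1 t) ↔ toB (CommRingCat.of R) z ∈ Set.range t := by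
  constructor
  · rintro ⟨w, rfl⟩
    refine ⟨toB (CommRingCat.of Ω) w, ?_⟩
    rw [← Scheme.Hom.comp_apply, ← Scheme.Hom.comp_apply]
    exact congrArg (fun f => f w) (toP1_toBase t).symm
  · rintro ⟨w, hw⟩
    obtain ⟨p, hp, -⟩ := Scheme.exists_preimage_of_isPullback (isPullback_toP1 t) z w hw.symm
    exact ⟨p, hp⟩

theorem range_d_subset : Set.range (d R σ i) ⊆ Set.range (chart i (CommRingCat.of R)) := by
  rintro _ ⟨x, rfl⟩
  exact ⟨dι R σ x, rfl⟩

/-- `D ⟶ Q` -/
noncomputable def d' : DD R σ ⟶ (Q R σ i t).toScheme :=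
  IsOpenImmersion.lift (Q R σ i t).ι (d R σ i) (by
    rw [Scheme.Opens.range_ι]
    exact fun z hz => Or.inl hz)

/-- `P^1_Ω ⟶ Q` -/
noncomputable def g' : PP (CommRingCat.of Ω) ⟶ (Q R σ i t).toScheme :=
  IsOpenImmersion.lift (Q R σ i t).ι (toP1 t) (by
    rw [Scheme.Opens.range_ι]
    exact fun z hz => Or.inr hz)

@[reassoc]
theorem d'_ι : d' R σ i t ≫ (Q R σ i t).ι = d R σ i := IsOpenImmersion.lift_fac _ _ _

@[reassoc]
theorem g'_ι : g' R σ i t ≫ (Q R σ i t).ι = toP1 t := IsOpenImmersion.lift_fac _ _ _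

instance : IsOpenImmersion (d' R σ i t) := by
  have : IsOpenImmersion (d' R σ i t ≫ (Q R σ i t).ι) := by rw [d'_ι]; infer_instance
  exact IsOpenImmersion.of_comp _ (Q R σ i t).ι

instance : IsOpenImmersion (g' R σ i t) := by
  have : IsOpenImmersion (g' R σ i t ≫ (Q R σ i t).ι) := by rw [g'_ι]; infer_instance
  exact IsOpenImmersion.of_comp _ (Q R σ i t).ι

/-- the two pieces -/
noncomputable def cX : Bool → Scheme.{u}
  | true => DD R σ
  | false => PP (CommRingCat.of Ω)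

/-- the two inclusions -/
noncomputable def cf : (l : Bool) → (cX R σ (Ω := Ω) l ⟶ (Q R σ i t).toScheme)
  | true => d' R σ i t
  | false => g' R σ i t

instance isOpenImmersion_cf (l : Bool) : IsOpenImmersion (cf R σ i t l) := by
  cases l
  · exact inferInstanceAs (IsOpenImmersion (g' R σ i t))
  · exact inferInstanceAs (IsOpenImmersion (d' R σ i t))

theorem cf_cover (z : (Q R σ i t).toScheme) : ∃ l, z ∈ Set.range (cf R σ i t l) := by
  have hz := z.2
  rw [mem_Q] at hz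
  rcases hz with ⟨x, hx⟩ | ⟨x, hx⟩
  · refine ⟨true, x, ?_⟩
    apply (Q R σ i t).ι.isOpenEmbedding.injective
    change (Q R σ i t).ι (d' R σ i t x) = z.1
    rw [← Scheme.Hom.comp_apply, d'_ι, hx]
  · refine ⟨false, x, ?_⟩
    apply (Q R σ i t).ι.isOpenEmbedding.injective
    change (Q R σ i t).ι (g' R σ i t x) = z.1
    rw [← Scheme.Hom.comp_apply, g'_ι, hx]

/-- the covering -/
noncomputable def cov : (Q R σ i t).toScheme.OpenCover where
  I₀ := Bool
  X := cX R σ (Ω := Ω)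
  f := cf R σ i t
  mem₀ := by
    rw [Scheme.presieve₀_mem_precoverage_iff]
    exact ⟨fun x => cf_cover R σ i t x, fun l => isOpenImmersion_cf R σ i t l⟩

theorem toP1_mem_range_iff {B C : CommRingCat.{u}} (g : Spec C ⟶ Spec B) (z : PP C) :
    toP1 g z ∈ Set.range (chart i B) ↔ z ∈ Set.range (chart i C) := by
  rw [mem_range_chart_iff, mem_range_chart_iff, ← Scheme.Hom.comp_apply, toP1_toZ]

section glue

variable (ψ : R →+* Ω) (hψ : ψ σ ≠ 0) {S₀ : Scheme.{u}} (b : Spec (CommRingCat.of R) ⟶ S₀)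

/-- `μ` on `D` -/
noncomputable def μD : DD R σ ⟶ CohB1.ProjSpaceOver 1 S₀ :=
  pt (B := CommRingCat.of (DR R σ)) (i + 1) (dι R σ ≫ pr (CommRingCat.of R) ≫ b) (fr R σ)

/-- `μ` on `P^1_Ω` -/
noncomputable def μΩ : PP (CommRingCat.of Ω) ⟶ CohB1.ProjSpaceOver 1 S₀ :=
  transl i (CommRingCat.of Ω) (ψ σ)⁻¹ ≫ toP1 (Spec.map (CommRingCat.ofHom ψ) ≫ b)

include hψ in
theorem key {C : CommRingCat.{u}} (χ : CommRingCat.of (DR R σ) ⟶ C)
    (y : Spec C ⟶ PP (CommRingCat.of Ω))
    (h : Spec.map χ ≫ d R σ i = y ≫ toP1 (Spec.map (CommRingCat.ofHom ψ))) :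
    Spec.map χ ≫ μD R σ i b = y ≫ μΩ R σ i ψ b := by
  -- `y` lands in the chart
  have hy : ∀ z, y z ∈ Set.range (chart i (CommRingCat.of Ω)) := by
    intro z
    rw [← toP1_mem_range_iff i (Spec.map (CommRingCat.ofHom ψ)), ← Scheme.Hom.comp_apply, ← h,
      Scheme.Hom.comp_apply]
    exact range_d_subset R σ i ⟨_, rfl⟩
  let y' : Spec C ⟶ AA (CommRingCat.of Ω) := IsOpenImmersion.lift (chart i (CommRingCat.of Ω)) y (by
    rintro _ ⟨z, rfl⟩
    exact hy z)
  have hy' : y' ≫ chart i (CommRingCat.of Ω) = y := IsOpenImmersion.lift_fac _ _ _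
  obtain ⟨υ, hυ⟩ := Spec.map_surjective y'
  let φ : CommRingCat.of Ω ⟶ C := CommRingCat.ofHom (Polynomial.C : Ω →+* Polynomial Ω) ≫ υ
  let c : C := υ.hom Polynomial.X
  have h1 : y = pt i (Spec.map φ) c := by
    rw [← hy', ← hυ, chart, map_pt, ← Spec.map_comp]
  have h2 : Spec.map χ ≫ d R σ i = pt i (Spec.map χ ≫ dι R σ ≫ pr (CommRingCat.of R))
      (χ.hom (algebraMap (Polynomial R) (DR R σ) Polynomial.X)) := by
    rw [d, chart, map_pt, map_pt]
    rfl
  have h3 : Spec.map χ ≫ dι R σ ≫ pr (CommRingCat.of R) =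
      Spec.map φ ≫ Spec.map (CommRingCat.ofHom ψ) := by
    have := congrArg (fun f => f ≫ toB (CommRingCat.of R)) h
    rw [h2, h1] at this
    simpa only [Category.assoc, pt_toBase, toP1_toBase, pt_toBase_assoc] using this
  rw [h2, h1, pt_toP1] at h
  have h4 : χ.hom (algebraMap (Polynomial R) (DR R σ) Polynomial.X) = c := pt_injective h
  have h5 : χ.hom (algebraMap (Polynomial R) (DR R σ) (Polynomial.C σ)) = φ.hom (ψ σ) := by
    rw [← Spec.map_comp, ← Spec.map_comp, ← Spec.map_comp] at h3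
    have := congrArg (fun f => f.hom σ) (Spec.map_injective h3)
    exact this
  have h6 : (c - φ.hom (ψ σ)⁻¹) * χ.hom (fr R σ) = 1 := by
    have e1 : φ.hom (ψ σ) * φ.hom (ψ σ)⁻¹ = 1 := by
      rw [← map_mul, mul_inv_cancel₀ hψ, map_one]
    have e2 := congrArg χ.hom (mul_fr R σ)
    rw [map_mul, h5] at e2
    have e3 : χ.hom (algebraMap (Polynomial R) (DR R σ) (den R σ)) = φ.hom (ψ σ) * c - 1 := by
      change χ.hom (algebraMap (Polynomial R) (DR R σ) (Polynomial.C σ * Polynomial.X - 1)) = _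
      rw [map_sub, map_mul, map_one, map_sub, map_mul, map_one, h5, h4]
    rw [e3] at e2
    have e4 : (φ.hom (ψ σ) * (c - φ.hom (ψ σ)⁻¹)) * χ.hom (fr R σ) = φ.hom (ψ σ) := by
      rw [mul_sub, e1]
      exact e2
    calc (c - φ.hom (ψ σ)⁻¹) * χ.hom (fr R σ)
        = (φ.hom (ψ σ) * φ.hom (ψ σ)⁻¹) * ((c - φ.hom (ψ σ)⁻¹) * χ.hom (fr R σ)) := by
          rw [e1, one_mul]
      _ = φ.hom (ψ σ)⁻¹ * ((φ.hom (ψ σ) * (c - φ.hom (ψ σ)⁻¹)) * χ.hom (fr R σ)) := by ring
      _ = 1 := by rw [e4, mul_comm, e1]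
  have h7 : y ≫ μΩ R σ i ψ b = pt i (Spec.map φ ≫ Spec.map (CommRingCat.ofHom ψ) ≫ b)
      (c - φ.hom (ψ σ)⁻¹) := by
    rw [μΩ, h1, pt_transl_assoc, pt_toP1]
  have h8 : Spec.map χ ≫ μD R σ i b = pt (i + 1) (Spec.map χ ≫ dι R σ ≫ pr (CommRingCat.of R) ≫ b)
      (χ.hom (fr R σ)) := by
    rw [μD, map_pt]
  rw [h7, h8]
  have h9 : Spec.map χ ≫ dι R σ ≫ pr (CommRingCat.of R) ≫ b =
      Spec.map φ ≫ Spec.map (CommRingCat.ofHom ψ) ≫ b := by
    have := congrArg (fun f => f ≫ b) h3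
    simpa only [Category.assoc] using this
  rw [h9]
  exact (pt_inv i _ h6).symm

include hψ in
theorem key' {Z : Scheme.{u}} [IsAffine Z] (p : Z ⟶ DD R σ) (y : Z ⟶ PP (CommRingCat.of Ω))
    (h : p ≫ d R σ i = y ≫ toP1 (Spec.map (CommRingCat.ofHom ψ))) :
    p ≫ μD R σ i b = y ≫ μΩ R σ i ψ b := by
  obtain ⟨χ, hχ⟩ := Spec.map_surjective (Z.isoSpec.inv ≫ p)
  rw [← cancel_epi Z.isoSpec.inv] at h ⊢
  rw [← Category.assoc, ← Category.assoc, ← hχ] at h ⊢
  exact key R σ i ψ hψ b χ _ h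

/-- the two pieces of `μ` -/
noncomputable def cm : (l : Bool) → (cX R σ (Ω := Ω) l ⟶ CohB1.ProjSpaceOver 1 S₀)
  | true => μD R σ i b
  | false => μΩ R σ i ψ b

variable [IsOpenImmersion (Spec.map (CommRingCat.ofHom ψ))]

include hψ in
theorem cm_compat (l m : Bool) :
    pullback.fst (cf R σ i (Spec.map (CommRingCat.ofHom ψ)) l) (cf R σ i (Spec.map (CommRingCat.ofHom ψ)) m) ≫
      cm R σ i ψ b l =
    pullback.snd (cf R σ i (Spec.map (CommRingCat.ofHom ψ)) l) (cf R σ i (Spec.map (CommRingCat.ofHom ψ)) m) ≫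
      cm R σ i ψ b m := by
  have key : ∀ {T : Scheme.{u}} (x : T ⟶ cX R σ (Ω := Ω) true) (x' : T ⟶ cX R σ (Ω := Ω) false),
      x ≫ cf R σ i (Spec.map (CommRingCat.ofHom ψ)) true = x' ≫ cf R σ i (Spec.map (CommRingCat.ofHom ψ)) false →
      x ≫ cm R σ i ψ b true = x' ≫ cm R σ i ψ b false := by
    intro T x x' h
    refine T.affineCover.hom_ext _ _ fun k => ?_
    change T.affineCover.f k ≫ (x : T ⟶ DD R σ) ≫ μD R σ i b =
      T.affineCover.f k ≫ (x' : T ⟶ PP (CommRingCat.of Ω)) ≫ μΩ R σ i ψ b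
    have hx : (x : T ⟶ DD R σ) ≫ d R σ i = (x ≫ cf R σ i (Spec.map (CommRingCat.ofHom ψ)) true) ≫
        (Q R σ i (Spec.map (CommRingCat.ofHom ψ))).ι := by
      rw [← d'_ι R σ i (Spec.map (CommRingCat.ofHom ψ))]
      exact (Category.assoc _ _ _).symm
    have hx' : (x' : T ⟶ PP (CommRingCat.of Ω)) ≫ toP1 (Spec.map (CommRingCat.ofHom ψ)) =
        (x' ≫ cf R σ i (Spec.map (CommRingCat.ofHom ψ)) false) ≫
        (Q R σ i (Spec.map (CommRingCat.ofHom ψ))).ι := by
      rw [← g'_ι R σ i (Spec.map (CommRingCat.ofHom ψ))]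
      exact (Category.assoc _ _ _).symm
    have h' : (x : T ⟶ DD R σ) ≫ d R σ i =
        (x' : T ⟶ PP (CommRingCat.of Ω)) ≫ toP1 (Spec.map (CommRingCat.ofHom ψ)) := by
      rw [hx, hx', h]
    have h'' : (T.affineCover.f k ≫ (x : T ⟶ DD R σ)) ≫ d R σ i =
        (T.affineCover.f k ≫ (x' : T ⟶ PP (CommRingCat.of Ω))) ≫
          toP1 (Spec.map (CommRingCat.ofHom ψ)) := by
      rw [Category.assoc, Category.assoc, h']
    rw [← Category.assoc, ← Category.assoc]
    exact key' R σ i ψ hψ b _ _ h''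
  cases l <;> cases m
  · have : pullback.fst (cf R σ i (Spec.map (CommRingCat.ofHom ψ)) false)
        (cf R σ i (Spec.map (CommRingCat.ofHom ψ)) false) = pullback.snd _ _ := by
      rw [← cancel_mono (cf R σ i (Spec.map (CommRingCat.ofHom ψ)) false), pullback.condition]
    rw [this]
  · exact (key _ _ pullback.condition.symm).symm
  · exact key _ _ pullback.condition
  · have : pullback.fst (cf R σ i (Spec.map (CommRingCat.ofHom ψ)) true)
        (cf R σ i (Spec.map (CommRingCat.ofHom ψ)) true) = pullback.snd _ _ := by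
      rw [← cancel_mono (cf R σ i (Spec.map (CommRingCat.ofHom ψ)) true), pullback.condition]
    rw [this]

/-- **The degenerating translation** `x ↦ x - 1/σ`. -/
noncomputable def μ : (Q R σ i (Spec.map (CommRingCat.ofHom ψ))).toScheme ⟶ CohB1.ProjSpaceOver 1 S₀ :=
  (cov R σ i (Spec.map (CommRingCat.ofHom ψ))).glueMorphisms (cm R σ i ψ b) (cm_compat R σ i ψ hψ b)

@[reassoc]
theorem d'_μ : d' R σ i (Spec.map (CommRingCat.ofHom ψ)) ≫ μ R σ i ψ hψ b = μD R σ i b :=
  (cov R σ i (Spec.map (CommRingCat.ofHom ψ))).ι_glueMorphisms (cm R σ i ψ b)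
    (cm_compat R σ i ψ hψ b) true

@[reassoc]
theorem g'_μ : g' R σ i (Spec.map (CommRingCat.ofHom ψ)) ≫ μ R σ i ψ hψ b = μΩ R σ i ψ b :=
  (cov R σ i (Spec.map (CommRingCat.ofHom ψ))).ι_glueMorphisms (cm R σ i ψ b)
    (cm_compat R σ i ψ hψ b) false

end glue

section special

variable [IsLocalRing R] (hσ : σ ∈ IsLocalRing.maximalIdeal R)
  (htc : ∀ x, t x ≠ IsLocalRing.closedPoint R)
  (ht : ∀ s : Spec (CommRingCat.of R), s ∉ Set.range t → s = IsLocalRing.closedPoint R)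

include hσ ht in
theorem of_notMem_Q (z : PP (CommRingCat.of R)) (hz : z ∉ Set.range (Q R σ i t).ι) :
    toB (CommRingCat.of R) z = IsLocalRing.closedPoint R ∧ z ∉ Set.range (chart i (CommRingCat.of R)) := by
  rw [Scheme.Opens.range_ι] at hz
  have hz1 : z ∉ Set.range (toP1 t) := fun h => hz (Or.inr h)
  have hz2 : z ∉ Set.range (d R σ i) := fun h => hz (Or.inl h)
  rw [mem_range_toP1] at hz1
  have h1 := ht _ hz1
  exact ⟨h1, fun h => hz2 (mem_range_d R σ i z hσ h h1)⟩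

include htc in
theorem notMem_Q (z : PP (CommRingCat.of R)) (hz : toB (CommRingCat.of R) z = IsLocalRing.closedPoint R)
    (hz2 : z ∉ Set.range (chart i (CommRingCat.of R))) : z ∉ Set.range (Q R σ i t).ι := by
  rw [Scheme.Opens.range_ι]
  rintro (h | h)
  · exact hz2 (range_d_subset R σ i h)
  · obtain ⟨x, hx⟩ := (mem_range_toP1 R t z).1 h
    exact htc x (hx.trans hz)

theorem μD_special {Z : Scheme.{u}} {S₀ : Scheme.{u}} (b : Spec (CommRingCat.of R) ⟶ S₀)
    (z : Z ⟶ DD R σ) (e : Z ⟶ Spec (CommRingCat.of (IsLocalRing.ResidueField R)))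
    (hσ : σ ∈ IsLocalRing.maximalIdeal R)
    (hz : z ≫ dι R σ ≫ pr (CommRingCat.of R) =
      e ≫ Spec.map (CommRingCat.ofHom (IsLocalRing.residue R))) :
    z ≫ μD R σ i b = (z ≫ dι R σ ≫ pr (CommRingCat.of R) ≫ b) ≫ sect S₀ (i + 1) := by
  have key : ∀ {C : CommRingCat.{u}} (χ : CommRingCat.of (DR R σ) ⟶ C)
      (ε : CommRingCat.of (IsLocalRing.ResidueField R) ⟶ C)
      (_ : Spec.map χ ≫ dι R σ ≫ pr (CommRingCat.of R) =
        Spec.map ε ≫ Spec.map (CommRingCat.ofHom (IsLocalRing.residue R))),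
      Spec.map χ ≫ μD R σ i b = (Spec.map χ ≫ dι R σ ≫ pr (CommRingCat.of R) ≫ b) ≫ sect S₀ (i + 1) := by
    intro C χ ε h
    rw [← Spec.map_comp, ← Spec.map_comp, ← Spec.map_comp] at h
    have h1 : χ.hom (algebraMap (Polynomial R) (DR R σ) (Polynomial.C σ)) = 0 := by
      have h2 := congrArg (fun f => f.hom σ) (Spec.map_injective h)
      have h3 : IsLocalRing.residue R σ = 0 := (IsLocalRing.residue_eq_zero_iff σ).2 hσ
      change χ.hom (algebraMap (Polynomial R) (DR R σ) (Polynomial.C σ)) =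
        ε.hom (IsLocalRing.residue R σ) at h2
      rw [h2, h3, map_zero]
    have h2 : χ.hom (fr R σ) = 0 := by
      rw [fr, map_mul, h1, zero_mul]
    rw [μD, map_pt, h2, pt_zero]
  refine Z.affineCover.hom_ext _ _ fun k => ?_
  let Z' := Z.affineCover.X k
  let a : Z' ⟶ Z := Z.affineCover.f k
  change a ≫ z ≫ μD R σ i b = a ≫ (z ≫ dι R σ ≫ pr (CommRingCat.of R) ≫ b) ≫ sect S₀ (i + 1)
  obtain ⟨χ, hχ⟩ := Spec.map_surjective (Z'.isoSpec.inv ≫ a ≫ z)
  obtain ⟨ε, hε⟩ := Spec.map_surjective (Z'.isoSpec.inv ≫ a ≫ e)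
  have h1 := key χ ε (by
    rw [hχ, hε]
    simp only [Category.assoc]
    rw [hz])
  rw [hχ] at h1
  rw [← cancel_epi Z'.isoSpec.inv]
  simpa only [Category.assoc] using h1

end special

section special2

variable [IsLocalRing R] (hσ : σ ∈ IsLocalRing.maximalIdeal R)
  (ψ : R →+* Ω) (hψ : ψ σ ≠ 0) {S₀ : Scheme.{u}} (b : Spec (CommRingCat.of R) ⟶ S₀)
  [IsOpenImmersion (Spec.map (CommRingCat.ofHom ψ))]
  (htc : ∀ x, Spec.map (CommRingCat.ofHom ψ) x ≠ IsLocalRing.closedPoint R)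

include hσ htc in
/-- On the closed fibre `μ` is constant. -/
theorem μ_special {Z : Scheme.{u}} (z : Z ⟶ (Q R σ i (Spec.map (CommRingCat.ofHom ψ))).toScheme)
    (e : Z ⟶ Spec (CommRingCat.of (IsLocalRing.ResidueField R)))
    (hz : z ≫ (Q R σ i (Spec.map (CommRingCat.ofHom ψ))).ι ≫ toB (CommRingCat.of R) =
      e ≫ Spec.map (CommRingCat.ofHom (IsLocalRing.residue R))) :
    z ≫ μ R σ i ψ hψ b = (z ≫ (Q R σ i (Spec.map (CommRingCat.ofHom ψ))).ι ≫
      toB (CommRingCat.of R) ≫ b) ≫ sect S₀ (i + 1) := by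
  have hpt : ∀ p : Z, toB (CommRingCat.of R) ((Q R σ i (Spec.map (CommRingCat.ofHom ψ))).ι (z p)) =
      IsLocalRing.closedPoint R := by
    intro p
    have h1 := congrArg (fun (f : Z ⟶ Spec (CommRingCat.of R)) => f p) hz
    have h2 : (e ≫ Spec.map (CommRingCat.ofHom (IsLocalRing.residue R))) p =
        IsLocalRing.closedPoint R := by
      rw [Scheme.Hom.comp_apply]
      have h : e p = (IsLocalRing.closedPoint (IsLocalRing.ResidueField R) : PrimeSpectrum _) :=
        Subsingleton.elim (α := Spec (CommRingCat.of (IsLocalRing.ResidueField R))) _ _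
      rw [h]
      exact IsLocalRing.comap_closedPoint (IsLocalRing.residue R)
    rw [← h2, ← hz]
    rfl
  have hr : ∀ p : Z, z p ∈ Set.range (d' R σ i (Spec.map (CommRingCat.ofHom ψ))) := by
    intro p
    obtain ⟨l, hl⟩ := cf_cover R σ i (Spec.map (CommRingCat.ofHom ψ)) (z p)
    cases l
    · exfalso
      have hl' : ∃ x : PP (CommRingCat.of Ω), g' R σ i (Spec.map (CommRingCat.ofHom ψ)) x = z p := hl
      obtain ⟨x, hx'⟩ := hl'
      have h2 : (Q R σ i (Spec.map (CommRingCat.ofHom ψ))).ι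
          (g' R σ i (Spec.map (CommRingCat.ofHom ψ)) x) = toP1 (Spec.map (CommRingCat.ofHom ψ)) x :=
        congrArg (fun (f : PP (CommRingCat.of Ω) ⟶ PP (CommRingCat.of R)) => f x)
          (g'_ι R σ i (Spec.map (CommRingCat.ofHom ψ)))
      have h3 : toB (CommRingCat.of R) (toP1 (Spec.map (CommRingCat.ofHom ψ)) x) =
          Spec.map (CommRingCat.ofHom ψ) (toB (CommRingCat.of Ω) x) :=
        congrArg (fun (f : PP (CommRingCat.of Ω) ⟶ Spec (CommRingCat.of R)) => f x)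
          (toP1_toBase (Spec.map (CommRingCat.ofHom ψ)))
      refine htc (toB (CommRingCat.of Ω) x) ?_
      rw [← h3, ← h2, hx']
      exact hpt p
    · exact hl
  let z' : Z ⟶ DD R σ := IsOpenImmersion.lift (d' R σ i (Spec.map (CommRingCat.ofHom ψ))) z (by
    rintro _ ⟨p, rfl⟩
    exact hr p)
  have hz' : z' ≫ d' R σ i (Spec.map (CommRingCat.ofHom ψ)) = z := IsOpenImmersion.lift_fac _ _ _
  have e1 : z ≫ (Q R σ i (Spec.map (CommRingCat.ofHom ψ))).ι ≫ toB (CommRingCat.of R) =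
      z' ≫ dι R σ ≫ pr (CommRingCat.of R) := by
    rw [← hz', Category.assoc, d'_ι_assoc, d, Category.assoc, chart_toB]
  have e2 : z ≫ (Q R σ i (Spec.map (CommRingCat.ofHom ψ))).ι ≫ toB (CommRingCat.of R) ≫ b =
      z' ≫ dι R σ ≫ pr (CommRingCat.of R) ≫ b := by
    have := congrArg (fun f => f ≫ b) e1
    simpa only [Category.assoc] using this
  rw [e2]
  have e3 : z ≫ μ R σ i ψ hψ b = z' ≫ μD R σ i b := by
    conv_lhs => rw [← hz']
    rw [Category.assoc, d'_μ]
  rw [e3]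
  exact μD_special R σ i b z' e hσ (e1.symm.trans hz)

end special2

end Groth.Agent.Sga5.H853.Mu
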