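import Groth.Agent.Sga5.H853.CaseOne
import Groth.Agent.Sga5.H853.Mu
import Mathlib.AlgebraicGeometry.Sites.EtalePoint

/-!
# The second deformation: large translations
-/

set_option autoImplicit false
universe u
open CategoryTheory CategoryTheory.Limits AlgebraicGeometry Opposite

namespace Groth.Agent.Sga5.H853.CaseTwo

open P1 Groth.Agent.CycB.P1Chart Groth.Agent.EtpbcA.P1Charts Groth.Agent.Sga4B.P1Geom
  Groth.Agent.Sga5.H853.FamB Groth.Agent.Sga5.H853.CountLES Groth.Agent.Sga5.H853.LocCmp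
  Groth.Agent.Etrest.FLCTors Groth.Agent.EtpbcA Groth.Agent.Sga5.H853.Family
  Groth.Agent.Sga4B.P1Transl Groth.Agent.Sga5.H853.CaseOne Groth.Agent.Sga5.H853.Mu

section infinity

theorem sect_notMem (i : Fin (1 + 1)) (B : CommRingCat.{u}) (x : Spec B) :
    sect (Spec B) (i + 1) x ∉ Set.range (chart i B) := by
  have h1 : sect (Spec B) (i + 1) = Spec.map (evh (𝟙 B) 0) ≫ chart (i + 1) B := by
    rw [evh_chart, pt_zero, Spec.map_id, Category.id_comp]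
  rw [h1, Scheme.Hom.comp_apply, chart_mem_range_iff, not_not]
  change (evh (𝟙 B) 0).hom Polynomial.X ∈ x.asIdeal
  rw [evh_X]
  exact zero_mem _

theorem eq_sect (i : Fin (1 + 1)) (B : CommRingCat.{u}) (z : PP B) (hz : z ∉ Set.range (chart i B)) :
    z = sect (Spec B) (i + 1) (toB B z) := by
  refine eq_of_notMem_range i B _ _ hz (sect_notMem i B _) ?_
  rw [← Scheme.Hom.comp_apply, sect_toBase]
  rfl

/-- sheaves which are locally isomorphic are isomorphic on geometric points -/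
theorem nonempty_of_etLoc {P : Scheme.{u}} {A₁ A₂ : EtCoh.Ab P} (hA : EtLoc A₁ A₂) {k : Type u} [Field k]
    [IsSepClosed k] (s : Spec (CommRingCat.of k) ⟶ P) :
    Nonempty ((EtCoh.pull s).obj A₁ ≅ (EtCoh.pull s).obj A₂) := by
  obtain ⟨D, d, _, v, hv, ⟨φ⟩⟩ := hA (s default)
  obtain ⟨m, rfl, -⟩ := Scheme.exists_fac_of_etale_of_isSepClosed d s v (hv.trans (congrArg s
    (Subsingleton.elim (α := Spec (CommRingCat.of k)) _ _)))
  exact ⟨(pp m d _ rfl A₁).symm ≪≫ (EtCoh.pull m).mapIso φ ≪≫ pp m d _ rfl A₂⟩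

end infinity

variable {k : Type u} [Field k] [IsAlgClosed k]
  (R : Type u) [CommRing R] [HenselianLocalRing R] [IsAlgClosed (IsLocalRing.ResidueField R)]
  (b : Spec (CommRingCat.of R) ⟶ Spec (CommRingCat.of k))
  {Y : Scheme.{u}} (h : Y ⟶ PP (CommRingCat.of k)) [IsFinite h]
  (A₁ A₂ : EtCoh.Ab (PP (CommRingCat.of k)))
  {Ω : Type u} [Field Ω] [IsAlgClosed Ω] (i : Fin (1 + 1)) (ψ : R →+* Ω)
  [IsOpenImmersion (Spec.map (CommRingCat.ofHom ψ))]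
  (htc : ∀ x, Spec.map (CommRingCat.ofHom ψ) x ≠ IsLocalRing.closedPoint R)
  (ht : ∀ s : Spec (CommRingCat.of R), s ∉ Set.range (Spec.map (CommRingCat.ofHom ψ)) →
    s = IsLocalRing.closedPoint R)
  (σ : R) (hσ : σ ∈ IsLocalRing.maximalIdeal R) (hψ : ψ σ ≠ 0)
  (N : ℕ) (hN : IsUnit (N : Γ(Spec (CommRingCat.of R), ⊤))) (hN0 : 0 < N)
  (W : Y.Opens) [Etale (W.ι ≫ h)] (hWf : ((W : Set Y)ᶜ).Finite) (hWc : ∀ y, y ∉ W → IsClosed ({y} : Set Y))
  (hf : {y : Y | h y ∉ Set.range (chart i (CommRingCat.of k))}.Finite)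
  (hc : ∀ y : Y, h y ∉ Set.range (chart i (CommRingCat.of k)) → IsClosed ({y} : Set Y))
  (hWi : ∀ y : Y, h y ∉ Set.range (chart i (CommRingCat.of k)) → y ∈ W)
  (L : (PP (CommRingCat.of k)).Opens)
  (hLi : ∀ y : PP (CommRingCat.of k), y ∉ Set.range (chart i (CommRingCat.of k)) → y ∈ L)
  (hA₁ : EtCoh.KilledBy N A₁) (hA₂ : EtCoh.KilledBy N A₂)
  (hAc₁ : EtPBC.IsConstructible A₁) (hAc₂ : EtPBC.IsConstructible A₂)
  (hL₁ : EtCoh.IsFiniteLocallyConstant ((EtCoh.pull L.ι).obj A₁))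
  (hL₂ : EtCoh.IsFiniteLocallyConstant ((EtCoh.pull L.ι).obj A₂))
  (hA : EtLoc A₁ A₂)

/-- the point at infinity of the closed fibre -/
noncomputable def pinf : PP (CommRingCat.of R) := sect (Spec (CommRingCat.of R)) (i + 1) (IsLocalRing.closedPoint R)

/-- the local term at infinity -/
noncomputable def lamInf (A : EtCoh.Ab (PP (CommRingCat.of k))) : ℚ :=
  lamE (Q R σ i (Spec.map (CommRingCat.ofHom ψ))).ι ((EtCoh.pull (μ R σ i ψ hψ b)).obj A)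
    (geom (pinf R i))

/-- the set of bad points -/
def FF : Set Y := (W : Set Y)ᶜ ∪ {y : Y | h y ∉ Set.range (chart i (CommRingCat.of k))}

include ht hσ in
theorem hbad (x : Fam h b) (hx : toP h b x ∉ Set.range (Q R σ i (Spec.map (CommRingCat.ofHom ψ))).ι) :
    toS h b x = IsLocalRing.closedPoint R ∧ toY h b x ∈ FF h i W := by
  obtain ⟨h1, h2⟩ := of_notMem_Q R σ i (Spec.map (CommRingCat.ofHom ψ)) hσ ht _ hx
  refine ⟨(Scheme.Hom.comp_apply _ _ _).trans h1, Or.inr ?_⟩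
  change h (toY h b x) ∉ _
  rw [← Scheme.Hom.comp_apply, toY_comp, Scheme.Hom.comp_apply, toP1_mem_range_iff]
  exact h2

include hWf hf in
theorem finite_FF : (FF h i W).Finite := hWf.union hf

include hWc hc in
theorem isClosed_FF (y : Y) (hy : y ∈ FF h i W) : IsClosed ({y} : Set Y) := by
  rcases hy with hy | hy
  · exact hWc y hy
  · exact hc y hy

include htc hWi in
/-- The local terms at infinity. -/
theorem lamE_inf (A : EtCoh.Ab (PP (CommRingCat.of k))) (z : Fam h b)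
    (hz : toP h b z ∉ Set.range (Q R σ i (Spec.map (CommRingCat.ofHom ψ))).ι) :
    lamE (U R b h (FF h i W) (finite_FF h i W hWf hf) (isClosed_FF h i W hWc hc)).ι
      ((EtCoh.pull (l R b h (FF h i W) (finite_FF h i W hWf hf) (isClosed_FF h i W hWc hc)
        (Q R σ i (Spec.map (CommRingCat.ofHom ψ))).ι (hbad R b h i ψ ht σ hσ W) ≫ μ R σ i ψ hψ b)).obj A)
      (geom z) = lamInf R b i ψ σ hψ A := by
  let UU := U R b h (FF h i W) (finite_FF h i W hWf hf) (isClosed_FF h i W hWc hc)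
  let q := (Q R σ i (Spec.map (CommRingCat.ofHom ψ))).ι
  let ll : UU.toScheme ⟶ (Q R σ i (Spec.map (CommRingCat.ofHom ψ))).toScheme :=
    l R b h (FF h i W) (finite_FF h i W hWf hf) (isClosed_FF h i W hWc hc) q (hbad R b h i ψ ht σ hσ W)
  have hll : ll ≫ q = UU.ι ≫ toP h b :=
    l_q R b h (FF h i W) (finite_FF h i W hWf hf) (isClosed_FF h i W hWc hc) q (hbad R b h i ψ ht σ hσ W)
  obtain ⟨hz1, hz2⟩ := of_notMem_Q R σ i (Spec.map (CommRingCat.ofHom ψ)) hσ ht _ hz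
  have hzY : h (toY h b z) ∉ Set.range (chart i (CommRingCat.of k)) := by
    rw [← Scheme.Hom.comp_apply, toY_comp, Scheme.Hom.comp_apply, toP1_mem_range_iff]
    exact hz2
  let V : (Fam h b).Opens := toY h b ⁻¹ᵁ W
  have hzV : z ∈ V := hWi _ hzY
  have hVe : Etale (V.ι ≫ toP h b) := etale_toP R b h W
  let U' : V.toScheme.Opens := V.ι ⁻¹ᵁ UU
  have sq₁ : IsPullback (V.ι ∣_ UU) U'.ι UU.ι V.ι := isPullback_morphismRestrict V.ι UU
  have comm : ((V.ι ∣_ UU) ≫ ll) ≫ q = U'.ι ≫ V.ι ≫ toP h b := by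
    rw [Category.assoc, hll, ← Category.assoc, sq₁.w, Category.assoc]
  have sq₂ : IsPullback ((V.ι ∣_ UU) ≫ ll) U'.ι q (V.ι ≫ toP h b) := by
    refine isPullback_of_range comm fun v hv => ?_
    rw [Scheme.Opens.range_ι]
    change V.ι v ∈ UU
    rw [mem_U]
    rintro ⟨h1, h2⟩
    rcases h2 with h2 | h2
    · exact h2 v.2
    · have h3 : h (toY h b (V.ι v)) ∉ Set.range (chart i (CommRingCat.of k)) := h2
      rw [← Scheme.Hom.comp_apply, toY_comp, Scheme.Hom.comp_apply, toP1_mem_range_iff] at h3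
      refine notMem_Q R σ i (Spec.map (CommRingCat.ofHom ψ)) htc _ ?_ h3 hv
      exact (Scheme.Hom.comp_apply _ _ _).symm.trans h1
  have hp : toP h b z = pinf R i := by
    rw [eq_sect i _ _ hz2, hz1]
    rfl
  refine lamE_compare sq₁ sq₂ _ _ ?_ (geom z) (geom (pinf R i)) ⟨z, hzV⟩ ?_ ?_
  · exact pp (V.ι ∣_ UU) (ll ≫ μ R σ i ψ hψ b) _ rfl A ≪≫
      (pp ((V.ι ∣_ UU) ≫ ll) (μ R σ i ψ hψ b) _ (Category.assoc _ _ _) A).symm
  · rw [LocTerm.geom_default]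
    rfl
  · rw [LocTerm.geom_default, ← hp]
    rfl

include htc ht hσ hN hN0 hWf hWc hf hc hWi hLi hA₁ hA₂ hAc₁ hAc₂ hL₁ hL₂ hA in
/-- **Case II** -/
theorem caseTwo (bΩ : Spec (CommRingCat.of Ω) ⟶ Spec (CommRingCat.of k))
    (hbΩ : Spec.map (CommRingCat.ofHom ψ) ≫ b = bΩ) :
    ∃ n : ℕ, (∀ y : Y, h y ∉ Set.range (chart i (CommRingCat.of k)) → n ≠ 0) ∧
    (n ≠ 0 → 0 < lamInf R b i ψ σ hψ A₁ ∧ 0 < lamInf R b i ψ σ hψ A₂) ∧
    0 < chi (Fam h bΩ) ((EtCoh.pull (toP h bΩ ≫ transl i (CommRingCat.of Ω) (ψ σ)⁻¹ ≫ toP1 bΩ)).obj A₁) ∧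
    (lamInf R b i ψ σ hψ A₁) ^ n *
      chi (Fam h bΩ) ((EtCoh.pull (toP h bΩ ≫ transl i (CommRingCat.of Ω) (ψ σ)⁻¹ ≫ toP1 bΩ)).obj A₁) =
    (lamInf R b i ψ σ hψ A₂) ^ n *
      chi (Fam h bΩ) ((EtCoh.pull (toP h bΩ ≫ transl i (CommRingCat.of Ω) (ψ σ)⁻¹ ≫ toP1 bΩ)).obj A₂) := by
  classical
  subst hbΩ
  let F₀ := FF h i W
  have hF₀ := finite_FF h i W hWf hf
  have hF₀c := isClosed_FF h i W hWc hc
  have hF₀W : ∀ y, y ∉ F₀ → y ∈ W := by
    intro y hy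
    by_contra hyW
    exact hy (Or.inl hyW)
  let q := (Q R σ i (Spec.map (CommRingCat.ofHom ψ))).ι
  have hb := hbad R b h i ψ ht σ hσ W
  have hsp : ∀ (Z : Scheme.{u}) (z : Z ⟶ (Q R σ i (Spec.map (CommRingCat.ofHom ψ))).toScheme) (y : Z ⟶ Y)
      (e : Z ⟶ Spec (CommRingCat.of (IsLocalRing.ResidueField R))),
      z ≫ q ≫ toB (CommRingCat.of R) = e ≫ rr R → y ≫ h = z ≫ q ≫ toP1 b → (∀ p, y p ∉ F₀) →
      (∀ p : Z, (z ≫ μ R σ i ψ hψ b) p ∈ L) ∧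
        Nonempty ((EtCoh.pull (z ≫ μ R σ i ψ hψ b)).obj A₁ ≅ (EtCoh.pull (z ≫ μ R σ i ψ hψ b)).obj A₂) := by
    intro Z z y e h1 h2 h3
    have h4 := μ_special R σ i hσ ψ hψ b htc z e h1
    constructor
    · intro p
      rw [h4, Scheme.Hom.comp_apply]
      exact hLi _ (sect_notMem i _ _)
    · obtain ⟨φ⟩ := nonempty_of_etLoc hA (sect (Spec (CommRingCat.of k)) (i + 1))
      exact ⟨(pp _ _ _ h4.symm A₁).symm ≪≫ (EtCoh.pull (z ≫ q ≫ toB (CommRingCat.of R) ≫ b)).mapIso φ ≪≫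
        pp _ _ _ h4.symm A₂⟩
  obtain ⟨p1, p2, c1, -, key⟩ := family R b (Spec.map (CommRingCat.ofHom ψ)) h F₀ hF₀ hF₀c htc ht N hN hN0 W
    hF₀W q hb (g' R σ i (Spec.map (CommRingCat.ofHom ψ))) (g'_ι R σ i _) (μ R σ i ψ hψ b) L A₁ A₂ hA₁ hA₂
    hAc₁ hAc₂ hL₁ hL₂ hsp
  rw [g'_μ] at c1 key
  let B := bad R b h F₀ hF₀ hF₀c
  let n := (B.filter fun z => toP h b z ∉ Set.range q).card
  have hprod : ∀ A : EtCoh.Ab (PP (CommRingCat.of k)), ∏ z ∈ B, lamE (U R b h F₀ hF₀ hF₀c).ι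
      ((EtCoh.pull (l R b h F₀ hF₀ hF₀c q hb ≫ μ R σ i ψ hψ b)).obj A) (geom z) =
      (∏ z ∈ B.filter (fun z => toP h b z ∈ Set.range q), lamE (U R b h F₀ hF₀ hF₀c).ι
      ((EtCoh.pull (l R b h F₀ hF₀ hF₀c q hb ≫ μ R σ i ψ hψ b)).obj A) (geom z)) *
      (lamInf R b i ψ σ hψ A) ^ n := by
    intro A
    rw [← Finset.prod_filter_mul_prod_filter_not B (fun z => toP h b z ∈ Set.range q)]
    congr 1
    refine (Finset.prod_congr rfl fun z hz => ?_).trans (Finset.prod_const _)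
    exact lamE_inf R b h i ψ htc ht σ hσ hψ W hWf hWc hf hc hWi A z (Finset.mem_filter.1 hz).2
  refine ⟨n, ?_, ?_, c1, ?_⟩
  · intro y hy
    obtain ⟨z, hz1, hz2⟩ := Scheme.exists_preimage_of_isPullback (isPullback_toY_toS h b) y
      (IsLocalRing.closedPoint R) (Subsingleton.elim (α := Spec (CommRingCat.of k)) _ _)
    have hz3 : h (toY h b z) ∉ Set.range (chart i (CommRingCat.of k)) := by rw [hz1]; exact hy
    have hz4 := hz3
    rw [← Scheme.Hom.comp_apply, toY_comp, Scheme.Hom.comp_apply, toP1_mem_range_iff] at hz4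
    refine (Finset.card_pos.2 ⟨z, Finset.mem_filter.2 ⟨?_, ?_⟩⟩).ne'
    · exact (mem_bad R b h F₀ hF₀ hF₀c z).2 ⟨hz2, Or.inr hz3⟩
    · exact notMem_Q R σ i (Spec.map (CommRingCat.ofHom ψ)) htc _
        ((Scheme.Hom.comp_apply _ _ _).symm.trans hz2) hz4
  · intro hn
    obtain ⟨z, hz⟩ := Finset.card_pos.1 (Nat.pos_of_ne_zero hn)
    obtain ⟨hz1, hz2⟩ := Finset.mem_filter.1 hz
    constructor
    · rw [← lamE_inf R b h i ψ htc ht σ hσ hψ W hWf hWc hf hc hWi A₁ z hz2]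
      exact p1 z hz1
    · rw [← lamE_inf R b h i ψ htc ht σ hσ hψ W hWf hWc hf hc hWi A₂ z hz2]
      exact p2 z hz1
  · rw [hprod A₁, hprod A₂] at key
    have h2 : ∏ z ∈ B.filter (fun z => toP h b z ∈ Set.range q), lamE (U R b h F₀ hF₀ hF₀c).ι
        ((EtCoh.pull (l R b h F₀ hF₀ hF₀c q hb ≫ μ R σ i ψ hψ b)).obj A₂) (geom z) =
        ∏ z ∈ B.filter (fun z => toP h b z ∈ Set.range q), lamE (U R b h F₀ hF₀ hF₀c).ι
        ((EtCoh.pull (l R b h F₀ hF₀ hF₀c q hb ≫ μ R σ i ψ hψ b)).obj A₁) (geom z) :=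
      Finset.prod_congr rfl fun z hz =>
        (lamE_good R b h F₀ hF₀ hF₀c q hb (μ R σ i ψ hψ b) A₁ A₂ hA z (Finset.mem_filter.1 hz).2).symm
    rw [h2, mul_assoc, mul_assoc] at key
    exact mul_left_cancel₀ (Finset.prod_pos fun z hz => p1 z (Finset.mem_filter.1 hz).1).ne' key

end Groth.Agent.Sga5.H853.CaseTwo
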