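import Groth.Agent.FlatA.ZMTFactor
import Groth.Agent.VarietyA.Flasque1
import Mathlib.AlgebraicGeometry.Morphisms.Etale
import Mathlib.AlgebraicGeometry.Noetherian

/-!
# Finite compactification of a generic etale neighbourhood over a curve
-/

set_option autoImplicit false
universe u
open CategoryTheory CategoryTheory.Limits AlgebraicGeometry TopologicalSpace

namespace Groth.Agent.Sga5.H853.Compactify

theorem isClosed_of_subset_isDiscrete {T : Type*} [TopologicalSpace T] {S : Set T} (hS : IsClosed S)
    (hd : IsDiscrete S) {R : Set T} (hR : R ⊆ S) : IsClosed R := by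
  have : DiscreteTopology S := isDiscrete_iff_discreteTopology.1 hd
  have h := hS.isClosedEmbedding_subtypeVal.isClosedMap (Subtype.val ⁻¹' R) (isClosed_discrete _)
  rwa [Subtype.image_preimage_coe, Set.inter_eq_right.2 hR] at h

/-- Points above closed points in a finite morphism are closed. -/
theorem isClosed_of_finite {Y P : Scheme.{u}} (h : Y ⟶ P) [IsFinite h] (y : Y)
    (hy : IsClosed ({h y} : Set P)) : IsClosed ({y} : Set Y) := by
  have h1 : IsClosed (h ⁻¹' {h y}) := hy.preimage h.continuous
  exact isClosed_of_subset_isDiscrete h1 (h.isDiscrete_preimage_singleton (h y)) (by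
    rintro _ rfl
    rfl)

theorem finite_preimage {Y P : Scheme.{u}} (h : Y ⟶ P) [IsFinite h] (Z : Set P) (hZ : Z.Finite) :
    (h ⁻¹' Z).Finite := by
  have : h ⁻¹' Z = ⋃ z ∈ Z, h ⁻¹' {z} := by
    ext y
    simp
  rw [this]
  exact hZ.biUnion fun z _ => h.finite_preimage_singleton z

theorem locallyQuasiFinite_of_etale {U X : Scheme.{u}} (u : U ⟶ X) [Etale u] :
    LocallyQuasiFinite u := by
  rw [HasRingHomProperty.iff_appLE (P := @LocallyQuasiFinite)]
  intro V W e
  have h := HasRingHomProperty.appLE (P := @Etale) u ‹_› V W e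
  algebraize [(u.appLE V W e).hom]
  have : Algebra.FormallyUnramified Γ(X, V) Γ(U, W) := inferInstance
  have : Algebra.EssFiniteType Γ(X, V) Γ(U, W) := inferInstance
  have : Algebra.QuasiFinite Γ(X, V) Γ(U, W) := inferInstance
  exact this

/-- A finite morphism has discrete fibres: no specializations. -/
theorem eq_of_specializes {Y P : Scheme.{u}} (h : Y ⟶ P) [IsFinite h] {a b : Y} (hab : a ⤳ b)
    (hf : h a = h b) : a = b := by
  have hd := h.isDiscrete_preimage_singleton (h b)
  obtain ⟨O, hO, hOu⟩ := isDiscrete_iff_forall_mem_exists_isOpen.1 hd b rfl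
  have hb : b ∈ O := (hOu.symm ▸ Set.mem_singleton b : b ∈ O ∩ h ⁻¹' {h b}).1
  have ha : a ∈ O := hab.mem_open hO hb
  have : a ∈ O ∩ h ⁻¹' {h b} := ⟨ha, hf⟩
  rw [hOu] at this
  exact this

/-- In a Noetherian space, a dense open subset contains a generization of each point. -/
theorem exists_specializes {Y : Type*} [TopologicalSpace Y] [NoetherianSpace Y] [QuasiSober Y] {D : Set Y}
    (hD : IsOpen D) (hd : Dense D) (y : Y) : ∃ g ∈ D, g ⤳ y := by
  obtain ⟨U, hU1, hU2, hU3⟩ := NoetherianSpace.exists_isOpen_nonempty_subset_irreducibleComponent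
    (irreducibleComponent y) (irreducibleComponent_mem_irreducibleComponents y)
  obtain ⟨g, hg⟩ := QuasiSober.sober (isIrreducible_irreducibleComponent (x := y)) isClosed_irreducibleComponent
  obtain ⟨z, hzU, hzD⟩ := hd.inter_open_nonempty U hU1 hU2
  refine ⟨g, ?_, hg.specializes (mem_irreducibleComponent)⟩
  exact (hg.specializes (hU3 hzU)).mem_open hD hzD

variable {P : Scheme.{u}} [IsNoetherian P] [IsIntegral P]
  (hdim : topologicalKrullDim P ≤ 1)

include hdim in
omit [AlgebraicGeometry.IsNoetherian P] in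
theorem isClosed_of_ne (p : P) (hp : p ≠ genericPoint P) : IsClosed ({p} : Set P) := by
  refine VarietyA.Flasque1.isClosed_singleton_of_mem_of_ne_univ hdim (C := closure {p}) isClosed_closure ?_
    (subset_closure rfl)
  intro h
  apply hp
  have h1 : genericPoint P ∈ closure ({p} : Set P) := by rw [h]; trivial
  have h2 : p ⤳ genericPoint P := specializes_iff_mem_closure.2 h1
  exact (h2.antisymm (genericPoint_specializes p)).eq

include hdim in
theorem finite_of_isClosed (C : Set P) (hC : IsClosed C) (hne : genericPoint P ∉ C) : C.Finite :=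
  VarietyA.Flasque1.finite_of_isClosed_of_ne_univ hdim hC (by rintro rfl; exact hne trivial)

include hdim in
/-- Finite compactification of a generic etale neighbourhood. -/
theorem exists_compactification {D : Scheme.{u}} (d : D ⟶ P) [Etale d] (v : D) (hv : d v = genericPoint P) :
    ∃ (Y : Scheme.{u}) (h : Y ⟶ P) (_ : IsFinite h) (W : Y.Opens) (g : W.toScheme ⟶ D),
      W.ι ≫ h = g ≫ d ∧ Etale (W.ι ≫ h) ∧ ((W : Set Y)ᶜ).Finite ∧ (∀ y, y ∉ W → IsClosed ({y} : Set Y)) ∧
      Function.Surjective h ∧ ∀ y, y ∉ W → h y ≠ genericPoint P := by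
  obtain ⟨V, hV, hvV⟩ : ∃ V : D.Opens, IsAffineOpen V ∧ v ∈ V := by
    obtain ⟨_, ⟨V, hV, rfl⟩, hvV, -⟩ := D.isBasis_affineOpens.exists_subset_of_mem_open
      (Set.mem_univ v) isOpen_univ
    exact ⟨V, hV, hvV⟩
  have hVa : IsAffine V.toScheme := hV
  have hVs : V.toScheme.IsSeparated := inferInstance
  let f : V.toScheme ⟶ P := V.ι ≫ d
  have hfe : Etale f := inferInstance
  have hfq : QuasiCompact f := inferInstance
  have hfs : IsSeparated f := inferInstance
  have hlqf : LocallyQuasiFinite f := locallyQuasiFinite_of_etale f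
  obtain ⟨Y, j, h, _, _, hjq, _, hjh⟩ := FlatA.ZMTFactor.exists_factor f
  have hYn : IsNoetherian Y := by
    have : LocallyOfFiniteType h := inferInstance
    have h1 : IsLocallyNoetherian Y := LocallyOfFiniteType.isLocallyNoetherian h
    have h2 : CompactSpace Y := QuasiCompact.compactSpace_of_compactSpace h
    exact {}
  let W : Y.Opens := j.opensRange
  have hWd : Dense (W : Set Y) := j.denseRange
  have hne : ∀ y, y ∉ W → h y ≠ genericPoint P := by
    intro y hy hyg
    obtain ⟨g, hgW, hgy⟩ := exists_specializes W.isOpen hWd y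
    have h1 : h g ⤳ h y := hgy.map h.continuous
    rw [hyg] at h1
    have h2 : h g = genericPoint P := (h1.antisymm (genericPoint_specializes _)).eq
    have h3 : g = y := eq_of_specializes h hgy (h2.trans hyg.symm)
    exact hy (h3 ▸ hgW)
  have hcl : IsClosed (h '' (W : Set Y)ᶜ) := h.isClosedMap _ W.isOpen.isClosed_compl
  have hfin : (h '' (W : Set Y)ᶜ).Finite := by
    refine finite_of_isClosed hdim _ hcl ?_
    rintro ⟨y, hy, hyg⟩
    exact hne y hy hyg
  refine ⟨Y, h, inferInstance, W, j.isoOpensRange.inv ≫ V.ι, ?_, ?_, ?_, ?_, ?_, hne⟩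
  · rw [Category.assoc]
    change _ = _ ≫ f
    rw [← hjh, ← Category.assoc]
    congr 1
    rw [Iso.eq_inv_comp]
    simp [W]
  · have : W.ι ≫ h = j.isoOpensRange.inv ≫ f := by
      rw [← hjh, ← Category.assoc]
      congr 1
      rw [Iso.eq_inv_comp]
      simp [W]
    rw [this]
    infer_instance
  · exact (finite_preimage h _ hfin).subset fun y hy => ⟨y, hy, rfl⟩
  · intro y hy
    exact isClosed_of_finite h y (isClosed_of_ne hdim _ (hne y hy))
  · intro p
    have h1 : IsClosed (Set.range h) := by
      rw [← Set.image_univ]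
      exact h.isClosedMap _ isClosed_univ
    have h2 : genericPoint P ∈ Set.range h := by
      refine ⟨j ⟨v, hvV⟩, ?_⟩
      rw [← Scheme.Hom.comp_apply, hjh]
      exact hv
    exact (genericPoint_specializes p).mem_closed h1 h2

end Groth.Agent.Sga5.H853.Compactify
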