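import Groth.Agent.Sga5.H853.CountLES
import Groth.Agent.S0185
import Groth.Agent.S0203
import Groth.Agent.EtpbcB.TorsionBasic

/-!
# Finiteness of the cohomology of proper schemes of dimension at most one over an algebraically closed field
-/

set_option autoImplicit false
universe u
open CategoryTheory CategoryTheory.Limits AlgebraicGeometry Opposite

namespace Groth.Agent.Sga5.H853.Fin3Proper

open Groth.Agent.Sga5.H853.CountLES

theorem fin3_of_proper (k : Type u) [Field k] [IsAlgClosed k] {X : Scheme.{u}}
    (a : X ⟶ Spec (CommRingCat.of k)) [IsProper a] (hd : topologicalKrullDim X ≤ 1) (n : ℕ) (hn : 0 < n)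
    (F : EtCoh.Ab X) (hF : EtPBC.IsConstructible F) (hFn : EtCoh.KilledBy n F) : Fin3 X F :=
  ⟨fun q => Groth.Agent.S0185.result X a n hn F hF hFn q, fun q hq =>
    Groth.Agent.S0203.result k X a hd F (EtpbcB.TorsionBasic.isTorsion_of_killedBy hn hFn) q (by omega)⟩

end Groth.Agent.Sga5.H853.Fin3Proper
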