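import Groth.Agent.Sga5.H853.Special
import Groth.Agent.Sga5.H853.Fin3Proper
import Groth.Agent.Etrest.ConsClass
import Groth.Agent.S0127

/-!
# Comparison of two sheaves with the same restriction to the special fibre
-/

set_option autoImplicit false
universe u
open CategoryTheory CategoryTheory.Limits AlgebraicGeometry Opposite

namespace Groth.Agent.Sga5.H853.Compare

open Groth.Agent.Sga4h Groth.Agent.Sga5.H853.LocTerm
  Groth.Agent.Sga5.H853.CountLES Groth.Agent.Sga5.H853.LocCmp Groth.Agent.Sga5.H853.Special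
  Groth.Agent.Etrest.FLCTors Groth.Agent.Sga5.H853.Fin3Proper

variable (R : Type u) [CommRing R] [HenselianLocalRing R] [IsAlgClosed (IsLocalRing.ResidueField R)]
  {Ω : Type u} [Field Ω] [IsAlgClosed Ω] (t : Spec (CommRingCat.of Ω) ⟶ Spec (CommRingCat.of R))
  [IsOpenImmersion t]
  (ht : ∀ s : Spec (CommRingCat.of R), s ∉ Set.range t → s = IsLocalRing.closedPoint R)
  (N : ℕ) (hN : IsUnit (N : Γ(Spec (CommRingCat.of R), ⊤))) (hN0 : 0 < N)
  {X : Scheme.{u}} (f : X ⟶ Spec (CommRingCat.of R)) [IsProper f]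
  (T : Finset X) (hT : ∀ x ∈ T, IsClosed ({x} : Set X)) (hT' : ∀ x ∈ T, IsSepClosed (X.residueField x))
  {U : Scheme.{u}} (j : U ⟶ X) [IsOpenImmersion j] (hj : ∀ x : X, x ∉ Set.range j → x ∈ T)
  {Y : Scheme.{u}} (w : Y ⟶ U) (e : Y ⟶ Spec (CommRingCat.of Ω)) (hc : IsPullback e w t (j ≫ f))
  [IsProper e] (hdY : topologicalKrullDim Y ≤ 1)
  {X₀ U₀ : Scheme.{u}} (i : X₀ ⟶ X) (i0 : X₀ ⟶ Spec (CommRingCat.of (IsLocalRing.ResidueField R)))
  (sq : IsPullback i i0 f (Spec.map (CommRingCat.ofHom (IsLocalRing.residue R))))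
  (hdX₀ : topologicalKrullDim X₀ ≤ 1)
  (j₀ : U₀ ⟶ X₀) [IsOpenImmersion j₀] (i' : U₀ ⟶ U) (sq' : IsPullback i' j₀ j i)

include sq sq' hdX₀ hN0 in
omit [IsAlgClosed Ω] in
theorem fin3_total (G : EtCoh.Ab U) (hG : EtCoh.KilledBy N G) (hGc : EtPBC.IsConstructible G) :
    Fin3 X ((EtShriek.extZero j).obj G) := by
  have hi0 : IsProper i0 := MorphismProperty.of_isPullback sq inferInstance
  refine fin3_of_equiv (fun q => nonempty_H_closed_extZero R N f j i i0 sq j₀ i' sq' hN0 G hG q) ?_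
  have : IsLocallyNoetherian X₀ := LocallyOfFiniteType.isLocallyNoetherian i0
  have : CompactSpace X₀ := QuasiCompact.compactSpace_of_compactSpace i0
  have hqc : QuasiCompact j₀ := inferInstance
  refine fin3_of_proper (IsLocalRing.ResidueField R) i0 hdX₀ N hN0 _ ?_ ?_
  · exact Etrest.ConsClass.isConstructible_extZero j₀ _ (Groth.Agent.S0127.result i' G hGc)
  · refine killedBy_extZero j₀ _ N ?_
    exact EtpbcB.TorsionBasic.killedBy_map _ N _ hG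

include ht hN hN0 hT hT' hj hc sq sq' hdX₀ hdY in
/-- **Comparison**: two constructible sheaves on `U` with the same restriction to the special fibre. -/
theorem compare (G₁ G₂ : EtCoh.Ab U) (hG₁ : EtCoh.KilledBy N G₁) (hG₂ : EtCoh.KilledBy N G₂)
    (hGc₁ : EtPBC.IsConstructible G₁) (hGc₂ : EtPBC.IsConstructible G₂)
    (hloc₁ : ∀ x : U, (j ≫ f) x = IsLocalRing.closedPoint R → ∃ (V : Scheme.{u}) (h : V ⟶ U) (_ : Etale h)
      (v : V), h v = x ∧ Smooth (h ≫ j ≫ f) ∧ EtCoh.IsFiniteLocallyConstant ((EtCoh.pull h).obj G₁))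
    (hloc₂ : ∀ x : U, (j ≫ f) x = IsLocalRing.closedPoint R → ∃ (V : Scheme.{u}) (h : V ⟶ U) (_ : Etale h)
      (v : V), h v = x ∧ Smooth (h ≫ j ≫ f) ∧ EtCoh.IsFiniteLocallyConstant ((EtCoh.pull h).obj G₂))
    (φ : (EtCoh.pull i').obj G₁ ≅ (EtCoh.pull i').obj G₂) :
    (∀ z ∈ T, 0 < lamE j G₁ (geom z)) ∧ (∀ z ∈ T, 0 < lamE j G₂ (geom z)) ∧
    0 < chi Y ((EtCoh.pull w).obj G₁) ∧ 0 < chi Y ((EtCoh.pull w).obj G₂) ∧
    (∏ z ∈ T, lamE j G₁ (geom z)) * chi Y ((EtCoh.pull w).obj G₁) =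
      (∏ z ∈ T, lamE j G₂ (geom z)) * chi Y ((EtCoh.pull w).obj G₂) := by
  have hX := fun (G : EtCoh.Ab U) hG hGc =>
    fin3_total R N hN0 f j i i0 sq hdX₀ j₀ i' sq' G hG hGc
  have hY : ∀ (G : EtCoh.Ab U), EtCoh.KilledBy N G → EtPBC.IsConstructible G →
      Fin3 Y ((EtCoh.pull w).obj G) := fun G hG hGc =>
    fin3_of_proper Ω e hdY N hN0 _ (Groth.Agent.S0127.result w G hGc)
      (EtpbcB.TorsionBasic.killedBy_map _ N _ hG)
  obtain ⟨p₁, q₁⟩ := special R t ht N hN f T hT hT' j hj w e hc G₁ hG₁ hloc₁ (hX G₁ hG₁ hGc₁)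
    (hY G₁ hG₁ hGc₁)
  obtain ⟨p₂, q₂⟩ := special R t ht N hN f T hT hT' j hj w e hc G₂ hG₂ hloc₂ (hX G₂ hG₂ hGc₂)
    (hY G₂ hG₂ hGc₂)
  refine ⟨p₁, p₂, chi_pos _ (hY G₁ hG₁ hGc₁), chi_pos _ (hY G₂ hG₂ hGc₂), ?_⟩
  rw [← q₁, ← q₂]
  refine chi_of_equiv fun q => ?_
  obtain ⟨e1⟩ := nonempty_H_closed_extZero R N f j i i0 sq j₀ i' sq' hN0 G₁ hG₁ q
  obtain ⟨e2⟩ := nonempty_H_closed_extZero R N f j i i0 sq j₀ i' sq' hN0 G₂ hG₂ q
  obtain ⟨e3⟩ := nonempty_H_of_iso ((EtShriek.extZero j₀).mapIso φ) q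
  exact ⟨e1.trans (e3.trans e2.symm)⟩

end Groth.Agent.Sga5.H853.Compare
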