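import Groth.Agent.Sga5.H853.LocTerm
import Groth.Agent.Sga4h.EulerCount
import Groth.Agent.Sga4h.FunLES

/-!
# The Euler-Poincare count in the long exact sequence of local cohomology

For an open immersion `j : U ⟶ X` whose complement `T` is a finite set of closed points with separably closed
residue fields, and a sheaf `F` on `X` such that the groups `H^q(X, F)` and `H^q(U, F)` are finite, and zero for
`q ≥ 3`:
`χ(X, F) = (∏_{z ∈ T} λ_z(F)) χ(U, F)` (`chi_eq`), with `χ = |H^0| |H^2| / |H^1|`,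
`λ_z = ∏ |(ℋ^q_T(F))_z|^{(-1)^q}`.
-/

set_option autoImplicit false
universe u
open CategoryTheory CategoryTheory.Limits AlgebraicGeometry Opposite

namespace Groth.Agent.Sga5.H853.CountLES

open Groth.Agent.Sga4h Groth.Agent.Sga4h.HYRestr Groth.Agent.Sga4h.KerSect
  Groth.Agent.Sga5.LocCohSeq Groth.Agent.Sga4h.PullInj Groth.Agent.Sga4h.EulerCount
  Groth.Agent.EtpbcB.GammaRpush Groth.Agent.EtpbcB.SepClosedPoint Groth.Agent.Sga5.H853.LocTerm
  Groth.Agent.Etrest.FLCTors

section count

variable (P Q R : ℕ → Type*) [∀ n, AddCommGroup (P n)] [∀ n, AddCommGroup (Q n)]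
  [∀ n, AddCommGroup (R n)] (a : ∀ n, P n →+ Q n) (b : ∀ n, Q n →+ R n) (d : ∀ n, R n →+ P (n + 1))

include a b d in
/-- Counting in a long exact sequence. -/
theorem card_long (h0 : Function.Injective (a 0)) (h1 : ∀ n, Function.Exact (a n) (b n))
    (h2 : ∀ n, Function.Exact (b n) (d n)) (h3 : ∀ n, Function.Exact (d n) (a (n + 1)))
    (hQ : Subsingleton (Q 3)) :
    Nat.card (P 0) * Nat.card (R 0) * Nat.card (Q 1) * Nat.card (P 2) * Nat.card (R 2) =
      Nat.card (Q 0) * Nat.card (P 1) * Nat.card (R 1) * Nat.card (Q 2) * Nat.card (P 3) := by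
  have e0 : Nat.card (P 0) = Nat.card (a 0).range := (card_range_eq (a 0) h0).symm
  have q : ∀ n, Nat.card (Q n) = Nat.card (a n).range * Nat.card (b n).range := fun n => by
    rw [card_ker_mul_range (b n), ker_eq_range (a n) (b n) (h1 n)]
  have r : ∀ n, Nat.card (R n) = Nat.card (b n).range * Nat.card (d n).range := fun n => by
    rw [card_ker_mul_range (d n), ker_eq_range (b n) (d n) (h2 n)]
  have p : ∀ n, Nat.card (P (n + 1)) = Nat.card (d n).range * Nat.card (a (n + 1)).range := fun n => by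
    rw [card_ker_mul_range (a (n + 1)), ker_eq_range (d n) (a (n + 1)) (h3 n)]
  have z : Nat.card (a 3).range = 1 := by
    have : Subsingleton (a 3).range := inferInstance
    exact Nat.card_eq_one_iff_unique.2 ⟨this, ⟨0⟩⟩
  rw [e0, q 0, q 1, q 2, r 0, r 1, r 2, p 0, p 1, p 2, z]
  ring

include a d in
theorem finite_long (h0 : Function.Injective (a 0))
    (h3 : ∀ n, Function.Exact (d n) (a (n + 1))) (hQ : ∀ n, Finite (Q n)) (hR : ∀ n, Finite (R n)) (n : ℕ) :
    Finite (P n) := by
  cases n with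
  | zero => exact Finite.of_injective _ h0
  | succ n => exact finite_of_exact (d n) (a (n + 1)) (h3 n)

end count

variable {X U : Scheme.{u}}

/-- `|H^0| |H^2| / |H^1|` -/
noncomputable def chi (X : Scheme.{u}) (F : EtCoh.Ab X) : ℚ :=
  (Nat.card (EtCoh.H X F 0) * Nat.card (EtCoh.H X F 2)) / Nat.card (EtCoh.H X F 1)

/-- The local term. -/
noncomputable def lam (j : U ⟶ X) [EtCoh.BCCont j] (F : EtCoh.Ab X) {Ω : Type u} [Field Ω] [IsSepClosed Ω]
    (ξ : Spec (CommRingCat.of Ω) ⟶ X) : ℚ :=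
  (Nat.card ((EtCoh.stalk ξ).obj ((EtDual.locCoh j 0).obj F)) *
    Nat.card ((EtCoh.stalk ξ).obj ((EtDual.locCoh j 2).obj F))) /
  (Nat.card ((EtCoh.stalk ξ).obj ((EtDual.locCoh j 1).obj F)) *
    Nat.card ((EtCoh.stalk ξ).obj ((EtDual.locCoh j 3).obj F)))

/-- Finiteness of the cohomology. -/
def Fin3 (X : Scheme.{u}) (F : EtCoh.Ab X) : Prop :=
  (∀ q, Finite (EtCoh.H X F q)) ∧ ∀ q, 3 ≤ q → Subsingleton (EtCoh.H X F q)

theorem card_pos_of {G : Type*} [AddCommGroup G] (h : Finite G) : (0 : ℚ) < Nat.card G := by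
  have := @Nat.card_pos G ⟨0⟩ h
  exact_mod_cast this

theorem chi_pos (F : EtCoh.Ab X) (h : Fin3 X F) : 0 < chi X F :=
  div_pos (mul_pos (card_pos_of (h.1 0)) (card_pos_of (h.1 2))) (card_pos_of (h.1 1))

section

variable (j : U ⟶ X) [IsOpenImmersion j] [EtCoh.BCCont j] (F : EtCoh.Ab X)

/-- the structure morphism of `U` in the small etale site of `X` -/
noncomputable abbrev mU : obj j ⟶ EtCoh.top X := (isTerminalTop X).from (obj j)

instance mono_mU : Mono (mU j) := mono_of_terminal j _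

theorem card_ev (q : ℕ) : Nonempty ((((ev (obj j)).rightDerived q).obj F : AddCommGrpCat.{u + 1}) ≃
    EtCoh.H U ((EtCoh.pull j).obj F) q) := by
  obtain ⟨e⟩ := H_rightDerived U ((EtCoh.pull j).obj F) q
  have e2 := (RightDer.rightDerivedIso (evObjIso j) q).app F ≪≫ rightDerivedPull j (Γtop U) q F
  exact ⟨e2.addCommGroupIsoToAddEquiv.toEquiv.trans e.symm.toEquiv⟩

theorem card_kerSect (q : ℕ) : Nonempty ((((kerSect (mU j)).rightDerived q).obj F : AddCommGrpCat.{u + 1}) ≃
    (EtDual.HY j q).obj F) :=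
  ⟨((RightDer.rightDerivedIso (gammaSuppIso' j) q).symm.app F).addCommGroupIsoToAddEquiv.toEquiv⟩

theorem injective_zero : Function.Injective
    ((NatTrans.rightDerived (inclS (mU j)) 0).app F) := by
  have : PreservesFiniteLimits (kerSect (mU j)) := by
    have : PreservesFiniteLimits (EtDual.secSupp j) := LocCohSeq.preservesFiniteLimits_secSupp j
    have : PreservesFiniteLimits (EtDual.gammaSupp j) :=
      comp_preservesFiniteLimits (EtDual.secSupp j) (Γtop X)
    exact preservesFiniteLimits_of_natIso (gammaSuppIso' j)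
  have h1 := FunLES.toZero_naturality (inclS (mU j)) F
  have i1 : IsIso ((kerSect (mU j)).toRightDerivedZero.app F) := inferInstance
  have i2 : IsIso ((ev (EtCoh.top X)).toRightDerivedZero.app F) := inferInstance
  have hm : Mono ((inclS (mU j)).app F) := by
    rw [AddCommGrpCat.mono_iff_injective]
    intro s t hst
    exact Subtype.ext hst
  have hm2 : Mono ((kerSect (mU j)).toRightDerivedZero.app F ≫
      (NatTrans.rightDerived (inclS (mU j)) 0).app F) := by
    rw [← h1]
    infer_instance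
  have hm3 : Mono ((NatTrans.rightDerived (inclS (mU j)) 0).app F) := by
    have : (NatTrans.rightDerived (inclS (mU j)) 0).app F =
      inv ((kerSect (mU j)).toRightDerivedZero.app F) ≫
        ((kerSect (mU j)).toRightDerivedZero.app F ≫
          (NatTrans.rightDerived (inclS (mU j)) 0).app F) := by
      rw [IsIso.inv_hom_id_assoc]
    rw [this]
    exact mono_comp _ _
  exact (AddCommGrpCat.mono_iff_injective _).1 hm3

/-- The local cohomology groups are finite, and the count. -/
theorem card_les (hX : Fin3 X F) (hU : Fin3 U ((EtCoh.pull j).obj F)) :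
    (∀ q, Finite ((EtDual.HY j q).obj F)) ∧
    Nat.card ((EtDual.HY j 0).obj F) * Nat.card (EtCoh.H U ((EtCoh.pull j).obj F) 0) *
        Nat.card (EtCoh.H X F 1) * Nat.card ((EtDual.HY j 2).obj F) *
        Nat.card (EtCoh.H U ((EtCoh.pull j).obj F) 2) =
      Nat.card (EtCoh.H X F 0) * Nat.card ((EtDual.HY j 1).obj F) *
        Nat.card (EtCoh.H U ((EtCoh.pull j).obj F) 1) * Nat.card (EtCoh.H X F 2) *
        Nat.card ((EtDual.HY j 3).obj F) := by
  let P : ℕ → Type (u + 1) := fun q => ((kerSect (mU j)).rightDerived q).obj F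
  let Q : ℕ → Type (u + 1) := fun q => ((ev (EtCoh.top X)).rightDerived q).obj F
  let R : ℕ → Type (u + 1) := fun q => ((ev (obj j)).rightDerived q).obj F
  let a : ∀ n, P n →+ Q n := fun n => ((NatTrans.rightDerived (inclS (mU j)) n).app F).hom
  let b : ∀ n, Q n →+ R n := fun n => ((NatTrans.rightDerived (resS (mU j)) n).app F).hom
  have hse := fun (I : EtCoh.Ab X) (hI : Injective I) =>
    LocCohSeq.shortExact_of_injective (mU j) I hI
  let d : ∀ n, R n →+ P (n + 1) := fun n =>
    (FunLES.δ (inclS (mU j)) (resS (mU j)) (inclS_resS (mU j)) hse F n).hom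
  have h0 : Function.Injective (a 0) := injective_zero j F
  have h1 : ∀ n, Function.Exact (a n) (b n) := fun n =>
    (ShortComplex.ab_exact_iff_function_exact _).1
      (FunLES.exact₂ (inclS (mU j)) (resS (mU j)) (inclS_resS (mU j)) hse F n)
  have h2 : ∀ n, Function.Exact (b n) (d n) := fun n =>
    (ShortComplex.ab_exact_iff_function_exact _).1
      (FunLES.exact₃ (inclS (mU j)) (resS (mU j)) (inclS_resS (mU j)) hse F n)
  have h3 : ∀ n, Function.Exact (d n) (a (n + 1)) := fun n =>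
    (ShortComplex.ab_exact_iff_function_exact _).1
      (FunLES.exact₁ (inclS (mU j)) (resS (mU j)) (inclS_resS (mU j)) hse F n)
  have eQ : ∀ n, Nonempty (Q n ≃ EtCoh.H X F n) := fun n => by
    obtain ⟨e⟩ := H_rightDerived X F n
    exact ⟨e.symm.toEquiv⟩
  have eP : ∀ n, Nonempty (P n ≃ (EtDual.HY j n).obj F) := fun n => card_kerSect j F n
  have eR : ∀ n, Nonempty (R n ≃ EtCoh.H U ((EtCoh.pull j).obj F) n) := fun n => card_ev j F n
  have cQ : ∀ n, Nat.card (Q n) = Nat.card (EtCoh.H X F n) := fun n => by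
    obtain ⟨e⟩ := eQ n
    exact Nat.card_congr e
  have cP : ∀ n, Nat.card (P n) = Nat.card ((EtDual.HY j n).obj F) := fun n => by
    obtain ⟨e⟩ := eP n
    exact Nat.card_congr e
  have cR : ∀ n, Nat.card (R n) = Nat.card (EtCoh.H U ((EtCoh.pull j).obj F) n) := fun n => by
    obtain ⟨e⟩ := eR n
    exact Nat.card_congr e
  have fQ : ∀ n, Finite (Q n) := fun n => by
    obtain ⟨e⟩ := eQ n
    have := hX.1 n
    exact Finite.of_equiv _ e.symm
  have fR : ∀ n, Finite (R n) := fun n => by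
    obtain ⟨e⟩ := eR n
    have := hU.1 n
    exact Finite.of_equiv _ e.symm
  have sQ : Subsingleton (Q 3) := by
    obtain ⟨e⟩ := eQ 3
    have := hX.2 3 le_rfl
    exact e.subsingleton
  constructor
  · intro q
    obtain ⟨e⟩ := eP q
    have := finite_long P Q R a d h0 h3 fQ fR q
    exact Finite.of_equiv _ e
  · have h := card_long P Q R a b d h0 h1 h2 h3 sQ
    rw [cP, cP, cP, cP, cQ, cQ, cQ, cR, cR, cR] at h
    exact h

variable (T : Finset X) (hT : ∀ x ∈ T, IsClosed ({x} : Set X))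
    (hT' : ∀ x ∈ T, IsSepClosed (X.residueField x)) (hj : ∀ x : X, x ∉ Set.range j → x ∈ T)

include hT hT' hj in
/-- **The Euler-Poincare count**: `χ(X, F) = (∏_{z ∈ T} λ_z(F)) χ(U, F)`. -/
theorem chi_eq (hX : Fin3 X F) (hU : Fin3 U ((EtCoh.pull j).obj F)) :
    (∀ z ∈ T, 0 < lam j F (geom z)) ∧
    chi X F = (∏ z ∈ T, lam j F (geom z)) * chi U ((EtCoh.pull j).obj F) := by
  obtain ⟨hf, hc⟩ := card_les j F hX hU
  have hpos : ∀ q, ∀ z ∈ T, (0 : ℚ) <
      Nat.card ((EtCoh.stalk (geom z)).obj ((EtDual.locCoh j q).obj F)) := fun q z hz =>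
    card_pos_of (finite_stalk_locCoh j T hT hT' hj q F (hf q) z hz)
  refine ⟨fun z hz => div_pos (mul_pos (hpos 0 z hz) (hpos 2 z hz))
    (mul_pos (hpos 1 z hz) (hpos 3 z hz)), ?_⟩
  have e : ∏ z ∈ T, lam j F (geom z) =
      (Nat.card ((EtDual.HY j 0).obj F) * Nat.card ((EtDual.HY j 2).obj F)) /
        (Nat.card ((EtDual.HY j 1).obj F) * Nat.card ((EtDual.HY j 3).obj F)) := by
    unfold lam
    rw [Finset.prod_div_distrib, Finset.prod_mul_distrib, Finset.prod_mul_distrib,
      card_HY j T hT hT' hj, card_HY j T hT hT' hj, card_HY j T hT hT' hj, card_HY j T hT hT' hj]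
    push_cast
    rfl
  rw [e]
  unfold chi
  have hc' : (Nat.card ((EtDual.HY j 0).obj F) : ℚ) * Nat.card (EtCoh.H U ((EtCoh.pull j).obj F) 0) *
        Nat.card (EtCoh.H X F 1) * Nat.card ((EtDual.HY j 2).obj F) *
        Nat.card (EtCoh.H U ((EtCoh.pull j).obj F) 2) =
      Nat.card (EtCoh.H X F 0) * Nat.card ((EtDual.HY j 1).obj F) *
        Nat.card (EtCoh.H U ((EtCoh.pull j).obj F) 1) * Nat.card (EtCoh.H X F 2) *
        Nat.card ((EtDual.HY j 3).obj F) := by exact_mod_cast hc
  have p1 := (card_pos_of (hX.1 1)).ne'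
  have p2 := (card_pos_of (hU.1 1)).ne'
  have p3 := (card_pos_of (hf 1)).ne'
  have p4 := (card_pos_of (hf 3)).ne'
  field_simp
  linear_combination -hc'

end

end Groth.Agent.Sga5.H853.CountLES
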