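import Groth.Agent.Sga4B.Pure
import Groth.Agent.Sga5.FlcCover
import Groth.Agent.Etbase.FinLiftSch
import Groth.Agent.EtpbcA.OverSite2
import Groth.Agent.Sga5.H853.CaseOne
import Mathlib.FieldTheory.IsAlgClosed.AlgebraicClosure
import Mathlib.AlgebraicGeometry.Sites.EtalePoint

/-!
# Direct images along finite morphisms of locally isomorphic sheaves
-/

set_option autoImplicit false
universe u
open CategoryTheory CategoryTheory.Limits AlgebraicGeometry Opposite

namespace Groth.Agent.Sga5.H853.Push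

open Groth.Agent.Etbase Groth.Agent.Etcore Groth.Agent.EtpbcA Groth.Agent.EtpbcA.ConsVan
  Groth.Agent.Sga5.FlcClopen Groth.Agent.Sga5.FlcCover Groth.Agent.Sga5.H853.Family
  Groth.Agent.Sga5.H853.CaseOne

/-- A finite locally constant sheaf on a connected scheme becomes constant on an etale surjective cover. -/
theorem exists_const_cover {X : Scheme.{u}} [ConnectedSpace X] (F : EtCoh.Ab X)
    (hF : EtCoh.IsFiniteLocallyConstant F) :
    ∃ (T : Scheme.{u}) (q : T ⟶ X) (_ : Etale q) (_ : Surjective q) (M : Type) (_ : AddCommGroup M)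
      (_ : Finite M), Nonempty ((EtCoh.pull q).obj F ≅ EtCoh.const T M) := by
  obtain ⟨x⟩ := (inferInstance : Nonempty X)
  obtain ⟨T, hT, t, -, M, _, _, φ, hφ⟩ := exists_at hF x
  let q : T.left ⟶ X := T.hom
  have hq : Etale q := inferInstance
  have hqf : IsFinite q := hT
  have hs : Surjective q := by
    have h1 : IsClopen (Set.range q) :=
      ⟨by rw [← Set.image_univ]; exact q.isClosedMap _ isClosed_univ, q.isOpenMap.isOpen_range⟩
    have h2 : Set.range q = Set.univ := h1.eq_univ ⟨q t, t, rfl⟩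
    exact ⟨Set.range_eq_univ.1 h2⟩
  exact ⟨T.left, q, hq, hs, M, inferInstance, inferInstance,
    (OverSite2.restr_iso_const_iff T F _).1 (ConsFLC.nonempty_iso_const _ hφ)⟩

/-- A geometric point with algebraically closed field. -/
theorem exists_geom (P : Scheme.{u}) (p : P) : ∃ (Ω : Type u) (_ : Field Ω) (_ : IsAlgClosed Ω)
    (t : Spec (CommRingCat.of Ω) ⟶ P), t default = p := by
  refine ⟨AlgebraicClosure (P.residueField p), inferInstance, inferInstance,
    Spec.map (CommRingCat.ofHom (algebraMap (P.residueField p) (AlgebraicClosure (P.residueField p)))) ≫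
      P.fromSpecResidueField p, ?_⟩
  rw [Scheme.Hom.comp_apply]
  exact Scheme.fromSpecResidueField_apply _ _

/-- Direct images along finite morphisms of sheaves which are isomorphic on an etale cover are locally
isomorphic. -/
theorem etLoc_push {X P T : Scheme.{u}} (f : X ⟶ P) [IsFinite f] (q : T ⟶ X) [Etale q] [Surjective q]
    (F G : EtCoh.Ab X) (φ : (EtCoh.pull q).obj F ≅ (EtCoh.pull q).obj G) :
    EtLoc ((EtCoh.push f).obj F) ((EtCoh.push f).obj G) := by
  intro p
  obtain ⟨Ω, _, _, t, ht⟩ := exists_geom P p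
  have hlift : ∀ ζ : Spec (CommRingCat.of Ω) ⟶ X, ∃ l : Spec (CommRingCat.of Ω) ⟶ T, l ≫ q = ζ := by
    intro ζ
    obtain ⟨y, hy⟩ := q.surjective (ζ default)
    obtain ⟨l, hl, -⟩ := Scheme.exists_fac_of_etale_of_isSepClosed q ζ y hy
    exact ⟨l, hl⟩
  choose w hw using hlift
  obtain ⟨V, g, hg, t', ht', H⟩ := FinLiftSch.lifts f q t (fun ζ _ => w ζ) (fun ζ _ => hw ζ)
  let a := pullback.fst g f
  let b := pullback.snd g f
  have sq : IsPullback a b g f := IsPullback.of_hasPullback g f
  obtain ⟨σ, hσ, -⟩ := H (pullback g f) a b sq.w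
  refine ⟨V, g, hg, t' default, ?_, ⟨?_⟩⟩
  · rw [← Scheme.Hom.comp_apply, ht', ht]
  · exact (Groth.Agent.Sga4B.Pure.pushPullIso f g b a sq.flip).app F ≪≫
      (EtCoh.push a).mapIso ((pp σ q b hσ F).symm ≪≫ (EtCoh.pull σ).mapIso φ ≪≫ pp σ q b hσ G) ≪≫
      ((Groth.Agent.Sga4B.Pure.pushPullIso f g b a sq.flip).app G).symm

end Groth.Agent.Sga5.H853.Push
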