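import Groth.Agent.EtpbcA.P1Charts

/-!
# Schemes finite over the projective line have dimension at most one
-/

set_option autoImplicit false
universe u
open CategoryTheory CategoryTheory.Limits AlgebraicGeometry Opposite

namespace Groth.Agent.Sga5.H853.Dim

open Groth.Agent.EtpbcA.P1Charts Groth.Agent.EtpbcA

theorem dim_le_one (Ω : Type u) [Field Ω] {Y : Scheme.{u}} (h : Y ⟶ PP (CommRingCat.of Ω)) [IsFinite h] :
    topologicalKrullDim Y ≤ 1 := by
  have h1 : IsProper (toB (CommRingCat.of Ω)) := Groth.Agent.Dix.ProjProper.isProper_toBase 1 _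
  exact (Artin.resTrdegLE_iff_dim Ω _ (h ≫ toB (CommRingCat.of Ω)) 1).2 fun w =>
    (Artin.resTrdegLE_comp_iff (toB (CommRingCat.of Ω)) h w (Artin.algAt_of_isIntegralHom h w) 1).2
      (resTrdegLE_PP Ω (h w))

end Groth.Agent.Sga5.H853.Dim
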