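import Groth.Agent.Sga4B.P1Transl
import Mathlib.AlgebraicGeometry.Morphisms.Etale
import Mathlib.AlgebraicGeometry.Restrict

/-!
# Base change of a finite morphism to the projective line

`h : Y ⟶ P^1_B`; `Fam h b = Y ×_{P^1_B} P^1_S` for `b : S ⟶ Spec B`.
Also some general lemmas on cartesian squares with open immersions.
-/

set_option autoImplicit false
universe u
open CategoryTheory CategoryTheory.Limits AlgebraicGeometry Opposite

namespace Groth.Agent.Sga5.H853.FamB

open P1 Groth.Agent.CycB.P1Chart Groth.Agent.EtpbcA.P1Charts Groth.Agent.Sga4B.P1Geom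

section general

/-- A commutative square with open immersions and the right ranges is cartesian. -/
theorem isPullback_of_range {X U V U' : Scheme.{u}} {j : U ⟶ X} {h : V ⟶ X} {j' : U' ⟶ V} {h' : U' ⟶ U}
    [IsOpenImmersion j] [IsOpenImmersion j'] (comm : h' ≫ j = j' ≫ h)
    (hr : ∀ v : V, h v ∈ Set.range j → v ∈ Set.range j') : IsPullback h' j' j h := by
  refine ⟨⟨comm⟩, ⟨PullbackCone.IsLimit.mk _ (fun s => IsOpenImmersion.lift j' s.snd ?_) ?_ ?_ ?_⟩⟩
  · rintro _ ⟨z, rfl⟩
    apply hr
    refine ⟨s.fst z, ?_⟩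
    rw [← Scheme.Hom.comp_apply, ← Scheme.Hom.comp_apply, s.condition]
  · intro s
    rw [← cancel_mono j, Category.assoc, comm, IsOpenImmersion.lift_fac_assoc, s.condition]
  · intro s
    exact IsOpenImmersion.lift_fac _ _ _
  · intro s m h1 h2
    rw [← cancel_mono j', h2, IsOpenImmersion.lift_fac]

/-- Pullback along a morphism factoring through a monomorphism. -/
theorem isPullback_of_mono {X U Y : Scheme.{u}} {j : U ⟶ X} [Mono j] {w : Y ⟶ U} {w' : Y ⟶ X}
    (h : w ≫ j = w') : IsPullback w (𝟙 Y) j w' := by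
  refine ⟨⟨by rw [h, Category.id_comp]⟩, ⟨PullbackCone.IsLimit.mk _ (fun s => s.snd) ?_ ?_ ?_⟩⟩
  · intro s
    rw [← cancel_mono j, Category.assoc, h, s.condition]
  · intro s
    exact Category.comp_id _
  · intro s m h1 h2
    rw [← h2]
    exact (Category.comp_id _).symm

/-- Restricting a base change square to an open subscheme containing the image. -/
theorem isPullback_restrict {S S' X Y U : Scheme.{u}} {f : X ⟶ S} {t : S' ⟶ S} {e : Y ⟶ S'} {w' : Y ⟶ X}
    (hc : IsPullback e w' t f) {j : U ⟶ X} [Mono j] {w : Y ⟶ U} (h : w ≫ j = w') :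
    IsPullback e w t (j ≫ f) := by
  have h1 := (isPullback_of_mono h).paste_vert hc.flip
  rw [Category.id_comp] at h1
  exact h1.flip

end general

variable {B : CommRingCat.{u}} {Y : Scheme.{u}} (h : Y ⟶ PP B) {S S' : Scheme.{u}} (b : S ⟶ Spec B)
  (c : S' ⟶ S)

/-- `Y ×_{P^1_B} P^1_S` -/
noncomputable def Fam : Scheme.{u} := pullback h (toP1 b)

/-- the projection to `Y` -/
noncomputable def toY : Fam h b ⟶ Y := pullback.fst h (toP1 b)

/-- the projection to `P^1_S` -/
noncomputable def toP : Fam h b ⟶ CohB1.ProjSpaceOver 1 S := pullback.snd h (toP1 b)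

/-- the projection to `S` -/
noncomputable def toS : Fam h b ⟶ S := toP h b ≫ CohB1.ProjSpaceOver.toBase 1 S

theorem isPullback_toY_toP : IsPullback (toY h b) (toP h b) h (toP1 b) := IsPullback.of_hasPullback _ _

@[reassoc]
theorem toY_comp : toY h b ≫ h = toP h b ≫ toP1 b := (isPullback_toY_toP h b).w

theorem isPullback_toY_toS : IsPullback (toY h b) (toS h b) (h ≫ toB B) b :=
  (isPullback_toY_toP h b).paste_vert (isPullback_toP1 b)

instance [IsFinite h] : IsFinite (toP h b) :=
  MorphismProperty.of_isPullback (isPullback_toY_toP h b) inferInstance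

instance [IsFinite h] : IsProper (toS h b) := by
  unfold toS
  infer_instance

/-- base change -/
noncomputable def map : Fam h (c ≫ b) ⟶ Fam h b :=
  (isPullback_toY_toP h b).lift (toY h (c ≫ b)) (toP h (c ≫ b) ≫ toP1 c) (by
    rw [toY_comp, Category.assoc]
    congr 1
    apply hom_ext
    · rw [Category.assoc, toP1_toZ, toP1_toZ, toP1_toZ]
    · rw [Category.assoc, toP1_toBase, toP1_toBase, toP1_toBase_assoc])

@[reassoc]
theorem map_toY : map h b c ≫ toY h b = toY h (c ≫ b) := (isPullback_toY_toP h b).lift_fst _ _ _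

@[reassoc]
theorem map_toP : map h b c ≫ toP h b = toP h (c ≫ b) ≫ toP1 c := (isPullback_toY_toP h b).lift_snd _ _ _

@[reassoc]
theorem map_toS : map h b c ≫ toS h b = toS h (c ≫ b) ≫ c := by
  rw [toS, map_toP_assoc, toP1_toBase, toS, Category.assoc]

theorem isPullback_map : IsPullback (map h b c) (toS h (c ≫ b)) (toS h b) c := by
  refine IsPullback.of_right ?_ (map_toS h b c) (isPullback_toY_toS h b)
  rw [map_toY]
  exact isPullback_toY_toS h (c ≫ b)

end Groth.Agent.Sga5.H853.FamB
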