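import Mathlib.AlgebraicGeometry.AlgClosed.Basic
import Mathlib.AlgebraicGeometry.PullbackCarrier
import Mathlib.AlgebraicGeometry.ResidueField
import Mathlib.FieldTheory.IsSepClosed
import Mathlib.AlgebraicGeometry.Morphisms.ClosedImmersion

/-!
# Points of `Y ×_k S` above closed points of `Y`

`k` algebraically closed, `Y` locally of finite type over `k`, `T = Y ×_k S`.  For a closed point `y` of `Y` and a
point `s` of `S` there is exactly one point `z` of `T` above `y` and `s`; it is closed if `s` is, and its residue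
field is that of `s`.
-/

set_option autoImplicit false
universe u
open CategoryTheory CategoryTheory.Limits AlgebraicGeometry

namespace Groth.Agent.Sga5.H853.Points

theorem residueFieldMap_surjective {X Y : Scheme.{u}} (f : X ⟶ Y)
    [SurjectiveOnStalks f] (x : X) : Function.Surjective (f.residueFieldMap x) := by
  have h := Scheme.residue_residueFieldMap f x
  have h2 : Function.Surjective (f.stalkMap x ≫ X.residue x) :=
    (X.residue_surjective x).comp (Scheme.Hom.stalkMap_surjective f x)
  rw [← h] at h2
  exact Function.Surjective.of_comp (g := Y.residue (f x)) h2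

theorem isSepClosed_of_ringEquiv {k k' : Type*} [Field k] [Field k'] [IsSepClosed k] (φ : k ≃+* k') :
    IsSepClosed k' := by
  refine IsSepClosed.of_exists_root _ fun p _ hirr hsep => ?_
  obtain ⟨x, hx⟩ := IsSepClosed.exists_root (p.map (φ.symm : k' →+* k))
    (by rw [Polynomial.degree_map]; exact hirr.degree_pos.ne') (hsep.map)
  refine ⟨φ x, ?_⟩
  have h1 : (φ.symm : k' →+* k) (p.eval (φ x)) = 0 := by
    rw [← Polynomial.eval_map_apply]
    simpa using hx
  exact (map_eq_zero_iff _ φ.symm.injective).mp h1

theorem isSepClosed_of_surjectiveOnStalks {X Y : Scheme.{u}} (f : X ⟶ Y)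
    [SurjectiveOnStalks f] (x : X) (h : IsSepClosed (X.residueField x)) :
    IsSepClosed (Y.residueField (f x)) := by
  have hb : Function.Bijective (f.residueFieldMap x) :=
    ⟨(f.residueFieldMap x).hom.injective, residueFieldMap_surjective f x⟩
  let e : Y.residueField (f x) ≃+* X.residueField x := RingEquiv.ofBijective (f.residueFieldMap x).hom hb
  exact isSepClosed_of_ringEquiv e.symm

variable {k : Type u} [Field k] [IsAlgClosed k] {Y S T : Scheme.{u}} (a : Y ⟶ Spec (CommRingCat.of k))
  [LocallyOfFiniteType a] [IsSeparated a] (b : S ⟶ Spec (CommRingCat.of k)) (g : T ⟶ Y) (f : T ⟶ S)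
  (sq : IsPullback g f a b) (y : Y) (hy : IsClosed ({y} : Set Y))

include sq hy in
theorem exists_section : ∃ c : S ⟶ T, IsClosedImmersion c ∧ c ≫ f = 𝟙 S ∧
    ∀ z : T, g z = y → z = c (f z) := by
  let p := pointOfClosedPoint a y hy
  have hp : p ≫ a = 𝟙 _ := pointOfClosedPoint_comp a y hy
  have hpc : IsClosedImmersion p := isClosedImmersion_of_comp_eq_id _ _ hp
  let c : S ⟶ T := sq.lift (b ≫ p) (𝟙 S) (by rw [Category.assoc, hp, Category.comp_id, Category.id_comp])
  have hcg : c ≫ g = b ≫ p := sq.lift_fst _ _ _
  have hcf : c ≫ f = 𝟙 S := sq.lift_snd _ _ _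
  have hpb : IsPullback c b g p := by
    have h1 : IsPullback (c ≫ f) b b (p ≫ a) := by
      rw [hcf, hp]
      exact IsPullback.id_horiz b
    exact IsPullback.of_right h1 hcg sq.flip
  have hc : IsClosedImmersion c := MorphismProperty.of_isPullback hpb.flip hpc
  refine ⟨c, hc, hcf, fun z hz => ?_⟩
  obtain ⟨s, hs, -⟩ := Scheme.exists_preimage_of_isPullback hpb z
    (IsLocalRing.closedPoint k) (by rw [hz]; exact (pointOfClosedPoint_apply a y hy _).symm)
  have : f z = s := by
    rw [← hs, ← Scheme.Hom.comp_apply, hcf]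
    rfl
  rw [this, hs]

include sq hy in
theorem eq_of_apply (z z' : T) (hz : g z = y) (hz' : g z' = y) (h : f z = f z') : z = z' := by
  obtain ⟨c, -, -, hc⟩ := exists_section a b g f sq y hy
  rw [hc z hz, hc z' hz', h]

include sq hy in
theorem isClosed_of (z : T) (hz : g z = y) (hf : IsClosed ({f z} : Set S)) : IsClosed ({z} : Set T) := by
  obtain ⟨c, _, -, hc⟩ := exists_section a b g f sq y hy
  have : ({z} : Set T) = c '' {f z} := by
    rw [Set.image_singleton, ← hc z hz]
  rw [this]
  exact c.isClosedEmbedding.isClosedMap _ hf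

include sq hy in
theorem isSepClosed_of (z : T) (hz : g z = y) (hf : IsSepClosed (S.residueField (f z))) :
    IsSepClosed (T.residueField z) := by
  obtain ⟨c, _, -, hc⟩ := exists_section a b g f sq y hy
  rw [hc z hz]
  exact isSepClosed_of_surjectiveOnStalks c (f z) hf

include sq in
/-- The points of the fibre over `s` above a finite set of closed points form a finite set. -/
theorem finite_fiber (F : Set Y) (hF : F.Finite) (hFc : ∀ y ∈ F, IsClosed ({y} : Set Y)) (s : S) :
    {z : T | f z = s ∧ g z ∈ F}.Finite := by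
  refine Set.Finite.of_finite_image (f := g) (hF.subset ?_) ?_
  · rintro _ ⟨z, ⟨-, hz⟩, rfl⟩
    exact hz
  · rintro z ⟨hz1, hz2⟩ z' ⟨hz1', -⟩ h
    exact eq_of_apply a b g f sq (g z) (hFc _ hz2) z z' rfl h.symm (hz1.trans hz1'.symm)

end Groth.Agent.Sga5.H853.Points
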