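import Groth.Agent.Sga5.H853.Compare
import Groth.Agent.Sga5.H853.FamB
import Groth.Agent.Sga5.H853.Points
import Groth.Agent.Sga5.H853.Dim
import Groth.Agent.EtpbcA.PullFLC

/-!
# The comparison theorem for families over the projective line
-/

set_option autoImplicit false
universe u
open CategoryTheory CategoryTheory.Limits AlgebraicGeometry Opposite

namespace Groth.Agent.Sga5.H853.Family

open P1 Groth.Agent.CycB.P1Chart Groth.Agent.EtpbcA.P1Charts Groth.Agent.Sga4B.P1Geom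
  Groth.Agent.Sga5.H853.FamB Groth.Agent.Sga5.H853.CountLES Groth.Agent.Sga5.H853.LocCmp
  Groth.Agent.Etrest.FLCTors Groth.Agent.EtpbcA

section pulls

variable {X Y Z : Scheme.{u}}

/-- `f^* g^* A ≅ k^* A` -/
noncomputable def pp (f : X ⟶ Y) (g : Y ⟶ Z) (k : X ⟶ Z) (h : f ≫ g = k) (A : EtCoh.Ab Z) :
    (EtCoh.pull f).obj ((EtCoh.pull g).obj A) ≅ (EtCoh.pull k).obj A :=
  (PullFLC.pullComp f g).app A ≪≫ (PullFLC.pullCongr h).app A

end pulls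

variable {k : Type u} [Field k] [IsAlgClosed k]
  (R : Type u) [CommRing R] [HenselianLocalRing R] [IsAlgClosed (IsLocalRing.ResidueField R)]
  {Ω : Type u} [Field Ω] [IsAlgClosed Ω]
  (b : Spec (CommRingCat.of R) ⟶ Spec (CommRingCat.of k))
  (t : Spec (CommRingCat.of Ω) ⟶ Spec (CommRingCat.of R)) [IsOpenImmersion t]
  {Y : Scheme.{u}} (h : Y ⟶ PP (CommRingCat.of k)) [IsFinite h]
  (F₀ : Set Y) (hF₀ : F₀.Finite) (hF₀c : ∀ y ∈ F₀, IsClosed ({y} : Set Y))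

instance : LocallyOfFiniteType (h ≫ toB (CommRingCat.of k)) := inferInstance

include hF₀ hF₀c in
theorem finite_bad : {z : Fam h b | toS h b z = IsLocalRing.closedPoint R ∧ toY h b z ∈ F₀}.Finite :=
  Points.finite_fiber (h ≫ toB (CommRingCat.of k)) b (toY h b) (toS h b) (isPullback_toY_toS h b) F₀ hF₀ hF₀c
    (IsLocalRing.closedPoint R)

/-- The bad points of the closed fibre. -/
noncomputable def bad : Finset (Fam h b) := (finite_bad R b h F₀ hF₀ hF₀c).toFinset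

theorem mem_bad (z : Fam h b) : z ∈ bad R b h F₀ hF₀ hF₀c ↔
    toS h b z = IsLocalRing.closedPoint R ∧ toY h b z ∈ F₀ := by
  unfold bad
  rw [Set.Finite.mem_toFinset]
  rfl

theorem isClosed_closedPoint : IsClosed ({IsLocalRing.closedPoint R} : Set (Spec (CommRingCat.of R))) :=
  PrimeSpectrum.isClosed_singleton_iff_isMaximal _ |>.2 (IsLocalRing.maximalIdeal.isMaximal R)

theorem isSepClosed_closedPoint :
    IsSepClosed ((Spec (CommRingCat.of R)).residueField (IsLocalRing.closedPoint R)) := by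
  have h2 := Ideal.bijective_algebraMap_quotient_residueField (IsLocalRing.maximalIdeal R)
  let e2 : (R ⧸ IsLocalRing.maximalIdeal R) ≃+* (IsLocalRing.maximalIdeal R).ResidueField :=
    RingEquiv.ofBijective _ h2
  have h3 : IsSepClosed (IsLocalRing.maximalIdeal R).ResidueField :=
    Points.isSepClosed_of_ringEquiv (k := IsLocalRing.ResidueField R) e2
  let e3 := (Scheme.Spec.residueFieldIso (CommRingCat.of R)
    (IsLocalRing.closedPoint R)).symm.commRingCatIsoToRingEquiv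
  exact Points.isSepClosed_of_ringEquiv (k := (IsLocalRing.maximalIdeal R).ResidueField) e3

theorem isClosed_bad (z : Fam h b) (hz : z ∈ bad R b h F₀ hF₀ hF₀c) : IsClosed ({z} : Set (Fam h b)) := by
  rw [mem_bad] at hz
  refine Points.isClosed_of (h ≫ toB (CommRingCat.of k)) b (toY h b) (toS h b) (isPullback_toY_toS h b)
    (toY h b z) (hF₀c _ hz.2) z rfl ?_
  rw [hz.1]
  exact isClosed_closedPoint R

theorem isSepClosed_bad (z : Fam h b) (hz : z ∈ bad R b h F₀ hF₀ hF₀c) :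
    IsSepClosed ((Fam h b).residueField z) := by
  rw [mem_bad] at hz
  refine Points.isSepClosed_of (h ≫ toB (CommRingCat.of k)) b (toY h b) (toS h b) (isPullback_toY_toS h b)
    (toY h b z) (hF₀c _ hz.2) z rfl ?_
  rw [hz.1]
  exact isSepClosed_closedPoint R

/-- The complement of the bad points. -/
noncomputable def U : (Fam h b).Opens :=
  ⟨((bad R b h F₀ hF₀ hF₀c : Finset (Fam h b)) : Set (Fam h b))ᶜ, by
    rw [isOpen_compl_iff,
      ← Set.biUnion_of_singleton ((bad R b h F₀ hF₀ hF₀c : Finset (Fam h b)) : Set (Fam h b))]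
    exact (Finset.finite_toSet _).isClosed_biUnion fun z hz => isClosed_bad R b h F₀ hF₀ hF₀c z hz⟩

theorem mem_U (z : Fam h b) : z ∈ U R b h F₀ hF₀ hF₀c ↔
    ¬ (toS h b z = IsLocalRing.closedPoint R ∧ toY h b z ∈ F₀) := by
  rw [← mem_bad R b h F₀ hF₀ hF₀c]
  rfl

section lift

variable {Q : Scheme.{u}} (q : Q ⟶ PP (CommRingCat.of R)) [IsOpenImmersion q]
  (hbad : ∀ x : Fam h b, toP h b x ∉ Set.range q → toS h b x = IsLocalRing.closedPoint R ∧ toY h b x ∈ F₀)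

/-- the map from `U` to `Q` -/
noncomputable def l : (U R b h F₀ hF₀ hF₀c).toScheme ⟶ Q :=
  IsOpenImmersion.lift q ((U R b h F₀ hF₀ hF₀c).ι ≫ toP h b) (by
    rintro _ ⟨x, rfl⟩
    by_contra hx
    exact (mem_U R b h F₀ hF₀ hF₀c x.1).1 x.2 (hbad x.1 hx))

@[reassoc]
theorem l_q : l R b h F₀ hF₀ hF₀c q hbad ≫ q = (U R b h F₀ hF₀ hF₀c).ι ≫ toP h b :=
  IsOpenImmersion.lift_fac _ _ _

end lift

section generic

variable (htc : ∀ x, t x ≠ IsLocalRing.closedPoint R)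

/-- the generic fibre in `U` -/
noncomputable def w : Fam h (t ≫ b) ⟶ (U R b h F₀ hF₀ hF₀c).toScheme :=
  IsOpenImmersion.lift (U R b h F₀ hF₀ hF₀c).ι (FamB.map h b t) (by
    rintro _ ⟨x, rfl⟩
    rw [Scheme.Opens.range_ι]
    refine (mem_U R b h F₀ hF₀ hF₀c _).2 fun hx => htc (toS h (t ≫ b) x) ?_
    rw [← hx.1, ← Scheme.Hom.comp_apply, ← Scheme.Hom.comp_apply, map_toS])

@[reassoc]
theorem w_ι : w R b t h F₀ hF₀ hF₀c htc ≫ (U R b h F₀ hF₀ hF₀c).ι = FamB.map h b t :=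
  IsOpenImmersion.lift_fac _ _ _

theorem isPullback_w : IsPullback (toS h (t ≫ b)) (w R b t h F₀ hF₀ hF₀c htc) t
    ((U R b h F₀ hF₀ hF₀c).ι ≫ toS h b) :=
  isPullback_restrict (isPullback_map h b t).flip (w_ι R b t h F₀ hF₀ hF₀c htc)

variable {Q : Scheme.{u}} (q : Q ⟶ PP (CommRingCat.of R)) [IsOpenImmersion q]
  (hbad : ∀ x : Fam h b, toP h b x ∉ Set.range q → toS h b x = IsLocalRing.closedPoint R ∧ toY h b x ∈ F₀)
  (m : PP (CommRingCat.of Ω) ⟶ Q) (hm : m ≫ q = toP1 t)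

include hm in
theorem w_l : w R b t h F₀ hF₀ hF₀c htc ≫ l R b h F₀ hF₀ hF₀c q hbad = toP h (t ≫ b) ≫ m := by
  rw [← cancel_mono q, Category.assoc, l_q, w_ι_assoc, map_toP, Category.assoc, hm]

end generic

section special

/-- the closed point -/
noncomputable abbrev rr : Spec (CommRingCat.of (IsLocalRing.ResidueField R)) ⟶ Spec (CommRingCat.of R) :=
  Spec.map (CommRingCat.ofHom (IsLocalRing.residue R))

theorem rr_apply (x : Spec (CommRingCat.of (IsLocalRing.ResidueField R))) :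
    rr R x = IsLocalRing.closedPoint R := by
  have h : x = (IsLocalRing.closedPoint (IsLocalRing.ResidueField R) : PrimeSpectrum _) :=
    Subsingleton.elim (α := Spec (CommRingCat.of (IsLocalRing.ResidueField R))) _ _
  rw [h]
  exact IsLocalRing.comap_closedPoint (IsLocalRing.residue R)

theorem exists_special (x : U R b h F₀ hF₀ hF₀c)
    (hx : ((U R b h F₀ hF₀ hF₀c).ι ≫ toS h b) x = IsLocalRing.closedPoint R) :
    ∃ x₀ : (FamB.map h b (rr R) ⁻¹ᵁ (U R b h F₀ hF₀ hF₀c)),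
      (FamB.map h b (rr R) ∣_ (U R b h F₀ hF₀ hF₀c)) x₀ = x := by
  obtain ⟨x', hx', -⟩ := Scheme.exists_preimage_of_isPullback (isPullback_map h b (rr R))
    ((U R b h F₀ hF₀ hF₀c).ι x) (IsLocalRing.closedPoint (IsLocalRing.ResidueField R))
    ((Scheme.Hom.comp_apply _ _ _).symm.trans (hx.trans (rr_apply R _).symm))
  obtain ⟨x₀, hx₀, -⟩ := Scheme.exists_preimage_of_isPullback
    (isPullback_morphismRestrict (FamB.map h b (rr R)) (U R b h F₀ hF₀ hF₀c)) x x' hx'.symm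
  exact ⟨x₀, hx₀⟩

end special

section local'

variable (W : Y.Opens) [Etale (W.ι ≫ h)]

theorem etale_toP : Etale ((toY h b ⁻¹ᵁ W).ι ≫ toP h b) :=
  MorphismProperty.of_isPullback (P := @Etale)
    ((isPullback_morphismRestrict (toY h b) W).paste_vert (isPullback_toY_toP h b)) inferInstance

/-- smoothness near points of `W` -/
theorem smooth_of_le {V : Scheme.{u}} (v : V ⟶ Fam h b) [IsOpenImmersion v]
    (hv : ∀ x, toY h b (v x) ∈ W) : Smooth (v ≫ toS h b) := by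
  let v' : V ⟶ (toY h b ⁻¹ᵁ W).toScheme := IsOpenImmersion.lift (toY h b ⁻¹ᵁ W).ι v (by
    rintro _ ⟨x, rfl⟩
    rw [Scheme.Opens.range_ι]
    exact hv x)
  have hv' : v' ≫ (toY h b ⁻¹ᵁ W).ι = v := IsOpenImmersion.lift_fac _ _ _
  have h1 : IsOpenImmersion v' := by
    have : IsOpenImmersion (v' ≫ (toY h b ⁻¹ᵁ W).ι) := by rw [hv']; infer_instance
    exact IsOpenImmersion.of_comp v' (toY h b ⁻¹ᵁ W).ι
  have h2 : Etale ((toY h b ⁻¹ᵁ W).ι ≫ toP h b) := etale_toP R b h W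
  have h3 : v ≫ toS h b = v' ≫ ((toY h b ⁻¹ᵁ W).ι ≫ toP h b) ≫ toB (CommRingCat.of R) := by
    rw [toS, ← hv']
    simp only [Category.assoc]
  rw [h3]
  infer_instance

variable {Q : Scheme.{u}} (q : Q ⟶ PP (CommRingCat.of R)) [IsOpenImmersion q]
  (hbad : ∀ x : Fam h b, toP h b x ∉ Set.range q → toS h b x = IsLocalRing.closedPoint R ∧ toY h b x ∈ F₀)
  (μ : Q ⟶ PP (CommRingCat.of k)) (L : (PP (CommRingCat.of k)).Opens)

theorem hloc (A : EtCoh.Ab (PP (CommRingCat.of k)))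
    (hA : EtCoh.IsFiniteLocallyConstant ((EtCoh.pull L.ι).obj A)) (x : U R b h F₀ hF₀ hF₀c)
    (hx1 : toY h b x.1 ∈ W) (hx2 : (l R b h F₀ hF₀ hF₀c q hbad ≫ μ) x ∈ L) :
    ∃ (V : Scheme.{u}) (v : V ⟶ (U R b h F₀ hF₀ hF₀c).toScheme) (_ : Etale v)
      (y : V), v y = x ∧ Smooth (v ≫ (U R b h F₀ hF₀ hF₀c).ι ≫ toS h b) ∧
      EtCoh.IsFiniteLocallyConstant
        ((EtCoh.pull v).obj ((EtCoh.pull (l R b h F₀ hF₀ hF₀c q hbad ≫ μ)).obj A)) := by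
  let V₀ : (U R b h F₀ hF₀ hF₀c).toScheme.Opens :=
    (((U R b h F₀ hF₀ hF₀c).ι ≫ toY h b) ⁻¹ᵁ W) ⊓ ((l R b h F₀ hF₀ hF₀c q hbad ≫ μ) ⁻¹ᵁ L)
  have hxV : x ∈ V₀ := ⟨hx1, hx2⟩
  refine ⟨V₀, V₀.ι, inferInstance, ⟨x, hxV⟩, rfl, ?_, ?_⟩
  · rw [← Category.assoc]
    exact smooth_of_le R b h W (V₀.ι ≫ (U R b h F₀ hF₀ hF₀c).ι) fun y => y.2.1
  · let v : V₀.toScheme ⟶ L.toScheme := IsOpenImmersion.lift L.ι
      (V₀.ι ≫ l R b h F₀ hF₀ hF₀c q hbad ≫ μ) (by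
        rintro _ ⟨y, rfl⟩
        rw [Scheme.Opens.range_ι]
        exact y.2.2)
    have hv : v ≫ L.ι = V₀.ι ≫ l R b h F₀ hF₀ hF₀c q hbad ≫ μ := IsOpenImmersion.lift_fac _ _ _
    have e := (pp V₀.ι (l R b h F₀ hF₀ hF₀c q hbad ≫ μ) _ rfl A) ≪≫ (pp v L.ι _ hv A).symm
    exact (PullFLC.isFLC_of_iso e.symm) (PullFLC.isFLC_pull v _ hA)

end local'

section main

variable (htc : ∀ x, t x ≠ IsLocalRing.closedPoint R)
  (ht : ∀ s : Spec (CommRingCat.of R), s ∉ Set.range t → s = IsLocalRing.closedPoint R)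
  (N : ℕ) (hN : IsUnit (N : Γ(Spec (CommRingCat.of R), ⊤))) (hN0 : 0 < N)
  (W : Y.Opens) [Etale (W.ι ≫ h)] (hF₀W : ∀ y, y ∉ F₀ → y ∈ W)
  {Q : Scheme.{u}} (q : Q ⟶ PP (CommRingCat.of R)) [IsOpenImmersion q]
  (hbad : ∀ x : Fam h b, toP h b x ∉ Set.range q → toS h b x = IsLocalRing.closedPoint R ∧ toY h b x ∈ F₀)
  (m : PP (CommRingCat.of Ω) ⟶ Q) (hm : m ≫ q = toP1 t)
  (μ : Q ⟶ PP (CommRingCat.of k)) (L : (PP (CommRingCat.of k)).Opens)
  (A₁ A₂ : EtCoh.Ab (PP (CommRingCat.of k))) (hA₁ : EtCoh.KilledBy N A₁) (hA₂ : EtCoh.KilledBy N A₂)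
  (hAc₁ : EtPBC.IsConstructible A₁) (hAc₂ : EtPBC.IsConstructible A₂)
  (hL₁ : EtCoh.IsFiniteLocallyConstant ((EtCoh.pull L.ι).obj A₁))
  (hL₂ : EtCoh.IsFiniteLocallyConstant ((EtCoh.pull L.ι).obj A₂))
  (hsp : ∀ (Z : Scheme.{u}) (z : Z ⟶ Q) (y : Z ⟶ Y)
    (e : Z ⟶ Spec (CommRingCat.of (IsLocalRing.ResidueField R))),
    z ≫ q ≫ toB (CommRingCat.of R) = e ≫ rr R → y ≫ h = z ≫ q ≫ toP1 b → (∀ p, y p ∉ F₀) →
    (∀ p : Z, (z ≫ μ) p ∈ L) ∧ Nonempty ((EtCoh.pull (z ≫ μ)).obj A₁ ≅ (EtCoh.pull (z ≫ μ)).obj A₂))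

include htc ht hN hN0 hF₀W hm hA₁ hA₂ hAc₁ hAc₂ hL₁ hL₂ hsp in
/-- The comparison theorem for families. -/
theorem family :
    (∀ z ∈ bad R b h F₀ hF₀ hF₀c, 0 < lamE (U R b h F₀ hF₀ hF₀c).ι
      ((EtCoh.pull (l R b h F₀ hF₀ hF₀c q hbad ≫ μ)).obj A₁) (geom z)) ∧
    (∀ z ∈ bad R b h F₀ hF₀ hF₀c, 0 < lamE (U R b h F₀ hF₀ hF₀c).ι
      ((EtCoh.pull (l R b h F₀ hF₀ hF₀c q hbad ≫ μ)).obj A₂) (geom z)) ∧
    0 < chi (Fam h (t ≫ b)) ((EtCoh.pull (toP h (t ≫ b) ≫ m ≫ μ)).obj A₁) ∧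
    0 < chi (Fam h (t ≫ b)) ((EtCoh.pull (toP h (t ≫ b) ≫ m ≫ μ)).obj A₂) ∧
    (∏ z ∈ bad R b h F₀ hF₀ hF₀c, lamE (U R b h F₀ hF₀ hF₀c).ι
      ((EtCoh.pull (l R b h F₀ hF₀ hF₀c q hbad ≫ μ)).obj A₁) (geom z)) *
      chi (Fam h (t ≫ b)) ((EtCoh.pull (toP h (t ≫ b) ≫ m ≫ μ)).obj A₁) =
    (∏ z ∈ bad R b h F₀ hF₀ hF₀c, lamE (U R b h F₀ hF₀ hF₀c).ι
      ((EtCoh.pull (l R b h F₀ hF₀ hF₀c q hbad ≫ μ)).obj A₂) (geom z)) *
      chi (Fam h (t ≫ b)) ((EtCoh.pull (toP h (t ≫ b) ≫ m ≫ μ)).obj A₂) := by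
  let UU := U R b h F₀ hF₀ hF₀c
  let ll := l R b h F₀ hF₀ hF₀c q hbad
  let ww := w R b t h F₀ hF₀ hF₀c htc
  let i := FamB.map h b (rr R)
  let U₀ := i ⁻¹ᵁ UU
  let i' : U₀.toScheme ⟶ UU.toScheme := i ∣_ UU
  have sq' : IsPullback i' U₀.ι UU.ι i := isPullback_morphismRestrict i UU
  -- the special fibre
  have c1 : (i' ≫ ll) ≫ q ≫ toB (CommRingCat.of R) = (U₀.ι ≫ toS h (rr R ≫ b)) ≫ rr R := by
    rw [Category.assoc, l_q_assoc, Category.assoc, ← map_toS]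
    have := sq'.w
    rw [← Category.assoc, ← Category.assoc, ← Category.assoc, this]
    simp only [Category.assoc]
    rfl
  have c2 : (U₀.ι ≫ toY h (rr R ≫ b)) ≫ h = (i' ≫ ll) ≫ q ≫ toP1 b := by
    rw [Category.assoc i', l_q_assoc, ← toY_comp, ← map_toY, ← Category.assoc i', sq'.w]
    simp only [Category.assoc]
    rfl
  have c3 : ∀ p, (U₀.ι ≫ toY h (rr R ≫ b)) p ∉ F₀ := by
    intro p hp
    have hp1 : i p.1 ∈ UU := p.2
    refine (mem_U R b h F₀ hF₀ hF₀c _).1 hp1 ⟨?_, ?_⟩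
    · have := congrArg (fun (φ : Fam h (rr R ≫ b) ⟶ Spec (CommRingCat.of R)) => φ p.1) (map_toS h b (rr R))
      refine Eq.trans ?_ (this.trans ?_)
      · exact (Scheme.Hom.comp_apply _ _ _).symm
      · exact (Scheme.Hom.comp_apply _ _ _).trans (rr_apply R _)
    · have := congrArg (fun (φ : Fam h (rr R ≫ b) ⟶ Y) => φ p.1) (map_toY h b (rr R))
      have e1 : toY h b (i p.1) = toY h (rr R ≫ b) p.1 := (Scheme.Hom.comp_apply _ _ _).symm.trans this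
      rw [e1]
      exact hp
  obtain ⟨s1, ⟨φ⟩⟩ := hsp _ (i' ≫ ll) (U₀.ι ≫ toY h (rr R ≫ b)) (U₀.ι ≫ toS h (rr R ≫ b)) c1 c2 c3
  have hl : ∀ (A : EtCoh.Ab (PP (CommRingCat.of k))),
      EtCoh.IsFiniteLocallyConstant ((EtCoh.pull L.ι).obj A) → ∀ x : UU,
      (UU.ι ≫ toS h b) x = IsLocalRing.closedPoint R → ∃ (V : Scheme.{u}) (v : V ⟶ UU.toScheme) (_ : Etale v)
      (y : V), v y = x ∧ Smooth (v ≫ UU.ι ≫ toS h b) ∧
      EtCoh.IsFiniteLocallyConstant ((EtCoh.pull v).obj ((EtCoh.pull (ll ≫ μ)).obj A)) := by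
    intro A hA x hx
    refine hloc R b h F₀ hF₀ hF₀c W q hbad μ L A hA x ?_ ?_
    · apply hF₀W
      intro hy
      exact (mem_U R b h F₀ hF₀ hF₀c x.1).1 x.2 ⟨hx, hy⟩
    · obtain ⟨x₀, hx₀⟩ := exists_special R b h F₀ hF₀ hF₀c x hx
      have := s1 x₀
      have e1 : ((i' ≫ ll) ≫ μ) x₀ = (ll ≫ μ) x := by
        rw [Category.assoc, Scheme.Hom.comp_apply]
        exact congrArg _ hx₀
      rw [e1] at this
      exact this
  have hdY : topologicalKrullDim (Fam h (t ≫ b)) ≤ 1 := Dim.dim_le_one Ω (toP h (t ≫ b))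
  have hdX₀ : topologicalKrullDim (Fam h (rr R ≫ b)) ≤ 1 :=
    Dim.dim_le_one (IsLocalRing.ResidueField R) (toP h (rr R ≫ b))
  have hjc : ∀ x : Fam h b, x ∉ Set.range UU.ι → x ∈ bad R b h F₀ hF₀ hF₀c := by
    intro x hx
    by_contra hxb
    apply hx
    rw [Scheme.Opens.range_ι]
    exact hxb
  have key := Compare.compare R t ht N hN hN0 (toS h b) (bad R b h F₀ hF₀ hF₀c)
    (isClosed_bad R b h F₀ hF₀ hF₀c) (isSepClosed_bad R b h F₀ hF₀ hF₀c) UU.ι hjc ww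
    (toS h (t ≫ b)) (isPullback_w R b t h F₀ hF₀ hF₀c htc) hdY i (toS h (rr R ≫ b))
    (isPullback_map h b (rr R)) hdX₀ U₀.ι i' sq'
    ((EtCoh.pull (ll ≫ μ)).obj A₁) ((EtCoh.pull (ll ≫ μ)).obj A₂)
    (EtpbcB.TorsionBasic.killedBy_map _ N _ hA₁) (EtpbcB.TorsionBasic.killedBy_map _ N _ hA₂)
    (Groth.Agent.S0127.result _ _ hAc₁) (Groth.Agent.S0127.result _ _ hAc₂)
    (hl A₁ hL₁) (hl A₂ hL₂)
    (pp i' (ll ≫ μ) ((i' ≫ ll) ≫ μ) (Category.assoc _ _ _).symm A₁ ≪≫ φ ≪≫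
      (pp i' (ll ≫ μ) ((i' ≫ ll) ≫ μ) (Category.assoc _ _ _).symm A₂).symm)
  have hwl : ww ≫ ll ≫ μ = toP h (t ≫ b) ≫ m ≫ μ := by
    rw [← Category.assoc, w_l R b t h F₀ hF₀ hF₀c htc q hbad m hm, Category.assoc]
  rw [chi_of_iso (pp ww (ll ≫ μ) _ hwl A₁), chi_of_iso (pp ww (ll ≫ μ) _ hwl A₂)] at key
  exact key

end main

end Groth.Agent.Sga5.H853.Family
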