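import Groth.Agent.Sga5.H853.CountLES
import Groth.Agent.Sga4h.LocCohLocal
import Groth.Agent.Etcore.ShriekBaseChange
import Groth.Agent.EtpbcA.PullFLC

/-!
# Local terms and etale localization
-/

set_option autoImplicit false
universe u
open CategoryTheory CategoryTheory.Limits AlgebraicGeometry Opposite

namespace Groth.Agent.Sga5.H853.LocCmp

open Groth.Agent.Sga4h Groth.Agent.Sga5.H853.CountLES Groth.Agent.Etbase.StalkPull

theorem card_of_iso {A B : AddCommGrpCat.{u + 1}} (e : A ≅ B) : Nat.card A = Nat.card B :=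
  Nat.card_congr e.addCommGroupIsoToAddEquiv.toEquiv

theorem chi_congr {X : Scheme.{u}} {F G : EtCoh.Ab X}
    (h : ∀ q, Nat.card (EtCoh.H X F q) = Nat.card (EtCoh.H X G q)) : chi X F = chi X G := by
  unfold chi
  rw [h, h, h]

theorem card_H_of_iso {X : Scheme.{u}} {F G : EtCoh.Ab X} (e : F ≅ G) (q : ℕ) :
    Nat.card (EtCoh.H X F q) = Nat.card (EtCoh.H X G q) :=
  card_of_iso ((EtCoh.HF X q).mapIso e)

theorem chi_of_iso {X : Scheme.{u}} {F G : EtCoh.Ab X} (e : F ≅ G) : chi X F = chi X G :=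
  chi_congr (card_H_of_iso e)

section

variable {X U V U' : Scheme.{u}} {j : U ⟶ X} {h : V ⟶ X} {j' : U' ⟶ V} {h' : U' ⟶ U}
  {Ω : Type u} [Field Ω] [IsSepClosed Ω]

theorem lam_of_iso (j : U ⟶ X) {F G : EtCoh.Ab X} (e : F ≅ G) (ξ : Spec (CommRingCat.of Ω) ⟶ X) :
    lam j F ξ = lam j G ξ := by
  have h : ∀ q, Nat.card ((EtCoh.stalk ξ).obj ((EtDual.locCoh j q).obj F)) =
      Nat.card ((EtCoh.stalk ξ).obj ((EtDual.locCoh j q).obj G)) := fun q =>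
    card_of_iso ((EtDual.locCoh j q ⋙ EtCoh.stalk ξ).mapIso e)
  unfold lam
  rw [h, h, h, h]

theorem lam_point (j : U ⟶ X) (F : EtCoh.Ab X) {Ω' : Type u} [Field Ω'] [IsSepClosed Ω']
    (ξ : Spec (CommRingCat.of Ω) ⟶ X) (ξ' : Spec (CommRingCat.of Ω') ⟶ X) (hx : ξ default = ξ' default) :
    lam j F ξ = lam j F ξ' := by
  obtain ⟨e⟩ := EtpbcB.GeomPointIndep.nonempty_stalkIso ξ ξ' hx
  have h : ∀ q, Nat.card ((EtCoh.stalk ξ).obj ((EtDual.locCoh j q).obj F)) =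
      Nat.card ((EtCoh.stalk ξ').obj ((EtDual.locCoh j q).obj F)) := fun q =>
    card_of_iso (e.app _)
  unfold lam
  rw [h, h, h, h]

/-- Local terms are local for the etale topology. -/
theorem lam_etale [Etale j] [Etale h] [Etale j'] (sq : IsPullback h' j' j h) (F : EtCoh.Ab X)
    (ξ : Spec (CommRingCat.of Ω) ⟶ V) : lam j F (ξ ≫ h) = lam j' ((EtCoh.pull h).obj F) ξ := by
  have := EtaleRes.jCont h
  have key : ∀ q, Nat.card ((EtCoh.stalk (ξ ≫ h)).obj ((EtDual.locCoh j q).obj F)) =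
      Nat.card ((EtCoh.stalk ξ).obj ((EtDual.locCoh j' q).obj ((EtCoh.pull h).obj F))) := fun q =>
    card_of_iso ((stalkPullIso h ξ).app _ ≪≫
      (EtCoh.stalk ξ).mapIso ((EtaleRes.pullIsoRestr h).app _ ≪≫
        (LocCohLocal.locCohRestrIso sq q).app F ≪≫
        (EtDual.locCoh j' q).mapIso ((EtaleRes.pullIsoRestr h).app F).symm))
  unfold lam
  rw [key, key, key, key]

/-- The local term of the extension by zero. -/
noncomputable def lamE (j : U ⟶ X) [IsOpenImmersion j] (G : EtCoh.Ab U) (ξ : Spec (CommRingCat.of Ω) ⟶ X) : ℚ :=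
  lam j ((EtShriek.extZero j).obj G) ξ

theorem lamE_of_iso (j : U ⟶ X) [IsOpenImmersion j] {F G : EtCoh.Ab U} (e : F ≅ G)
    (ξ : Spec (CommRingCat.of Ω) ⟶ X) : lamE j F ξ = lamE j G ξ :=
  lam_of_iso j ((EtShriek.extZero j).mapIso e) ξ

theorem lamE_point (j : U ⟶ X) [IsOpenImmersion j] (F : EtCoh.Ab U) {Ω' : Type u} [Field Ω'] [IsSepClosed Ω']
    (ξ : Spec (CommRingCat.of Ω) ⟶ X) (ξ' : Spec (CommRingCat.of Ω') ⟶ X) (hx : ξ default = ξ' default) :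
    lamE j F ξ = lamE j F ξ' := lam_point j _ ξ ξ' hx

/-- Local terms of extensions by zero are local for the etale topology. -/
theorem lamE_etale [IsOpenImmersion j] [Etale h] [IsOpenImmersion j'] (sq : IsPullback h' j' j h)
    (G : EtCoh.Ab U) (ξ : Spec (CommRingCat.of Ω) ⟶ V) :
    lamE j G (ξ ≫ h) = lamE j' ((EtCoh.pull h').obj G) ξ := by
  unfold lamE
  rw [lam_etale sq]
  exact lam_of_iso j' ((Etcore.ShriekBaseChange.extZeroBaseChange j h j' h' sq.flip).symm.app G) ξ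

end

section compare

variable {X₁ U₁ X₂ U₂ V U' : Scheme.{u}} {j₁ : U₁ ⟶ X₁} {h₁ : V ⟶ X₁} {j₂ : U₂ ⟶ X₂} {h₂ : V ⟶ X₂}
  {j' : U' ⟶ V} {h₁' : U' ⟶ U₁} {h₂' : U' ⟶ U₂}

/-- Comparison of local terms over a common etale neighbourhood. -/
theorem lamE_compare [IsOpenImmersion j₁] [IsOpenImmersion j₂] [IsOpenImmersion j'] [Etale h₁] [Etale h₂]
    (sq₁ : IsPullback h₁' j' j₁ h₁) (sq₂ : IsPullback h₂' j' j₂ h₂) (G₁ : EtCoh.Ab U₁) (G₂ : EtCoh.Ab U₂)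
    (e : (EtCoh.pull h₁').obj G₁ ≅ (EtCoh.pull h₂').obj G₂)
    {Ω₁ Ω₂ : Type u} [Field Ω₁] [IsSepClosed Ω₁] [Field Ω₂] [IsSepClosed Ω₂]
    (ξ₁ : Spec (CommRingCat.of Ω₁) ⟶ X₁) (ξ₂ : Spec (CommRingCat.of Ω₂) ⟶ X₂) (v : V)
    (hv₁ : h₁ v = ξ₁ default) (hv₂ : h₂ v = ξ₂ default) :
    lamE j₁ G₁ ξ₁ = lamE j₂ G₂ ξ₂ := by
  obtain ⟨Ω, _, _, ξ, hξ⟩ := EtpbcA.Germ.exists_geomPt_aux V v
  rw [lamE_point j₁ G₁ ξ₁ (ξ ≫ h₁) (by rw [Scheme.Hom.comp_apply, hξ, hv₁]),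
    lamE_point j₂ G₂ ξ₂ (ξ ≫ h₂) (by rw [Scheme.Hom.comp_apply, hξ, hv₂]),
    lamE_etale sq₁, lamE_etale sq₂]
  exact lamE_of_iso j' e ξ

end compare

end Groth.Agent.Sga5.H853.LocCmp
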