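import Groth.Agent.CurvesA.Punctual
import Groth.Agent.Sga4h.EulerPoint
import Groth.Agent.Etrest.FLCTors
import Groth.Agent.Sga4h.RDExact
import Groth.Agent.EtpbcB.GeomPointIndep
import Groth.Agent.Sga4h.LocCohLES
import Groth.Agent.Sga4h.HYRestr
import Groth.Agent.Sga5.LocCohSeq

/-!
# Local cohomology with support in a finite set of closed points with separably closed residue fields

`j : U ⟶ X` an open immersion whose complement is a finite set `T` of closed points with separably closed
residue fields: `H^q_T(X, F) ≃ ∏_{z ∈ T} (ℋ^q_T(F))_z`.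
-/

set_option autoImplicit false
universe u
open CategoryTheory CategoryTheory.Limits AlgebraicGeometry Opposite Abelian

namespace Groth.Agent.Sga5.H853.LocTerm

open Groth.Agent.EtpbcA.Germ Groth.Agent.Etcore.EtInst Groth.Agent.Etrest.FLCTors
  Groth.Agent.CurvesA.SkyPoint Groth.Agent.CurvesA.Punctual Groth.Agent.Sga4h.EulerPoint
  Groth.Agent.EtpbcB.SepClosedPoint Groth.Agent.EtpbcB.GammaRpush Groth.Agent.EtpbcA.Artin
open scoped Groth.Agent.Etcore.EtInst

variable {X : Scheme.{u}}

theorem geom_default (y : X) : geom y default = y := by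
  simp only [geom, Scheme.Hom.comp_apply]
  exact Scheme.fromSpecResidueField_apply _ _

/-- The product of the stalks at the points of `T`. -/
noncomputable def prodStalk (T : Finset X) : EtCoh.Ab X ⥤ AddCommGrpCat.{u + 1} where
  obj F := AddCommGrpCat.of (∀ z : T, (EtCoh.stalk (geom z.1)).obj F)
  map φ := AddCommGrpCat.ofHom
    { toFun := fun g z => (EtCoh.stalk (geom z.1)).map φ (g z)
      map_zero' := by
        funext z
        exact map_zero _
      map_add' := fun g h => by
        funext z
        exact map_add _ _ _ }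
  map_id F := by
    ext g z
    exact ConcreteCategory.congr_hom ((EtCoh.stalk (geom z.1)).map_id F) (g z)
  map_comp φ ψ := by
    ext g z
    exact ConcreteCategory.congr_hom ((EtCoh.stalk (geom z.1)).map_comp φ ψ) (g z)

theorem prodStalk_map_apply (T : Finset X) {F G : EtCoh.Ab X} (φ : F ⟶ G)
    (g : (prodStalk T).obj F) (z : T) :
    ((prodStalk T).map φ g : ∀ z : T, (EtCoh.stalk (geom z.1)).obj G) z =
      (EtCoh.stalk (geom z.1)).map φ ((g : ∀ z : T, (EtCoh.stalk (geom z.1)).obj F) z) := rfl

instance (T : Finset X) : (prodStalk T).Additive where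
  map_add {F G φ ψ} := by
    ext g
    funext z
    exact ConcreteCategory.congr_hom ((EtCoh.stalk (geom z.1)).map_add (f := φ) (g := ψ))
      ((g : ∀ z : T, (EtCoh.stalk (geom z.1)).obj F) z)

instance preservesHomology_prodStalk (T : Finset X) : (prodStalk T).PreservesHomology := by
  refine ((prodStalk T).exact_tfae.out 1 2).1 fun S hS => ?_
  rw [ShortComplex.ab_exact_iff]
  intro g hg
  have h : ∀ z : T, ∃ a : (EtCoh.stalk (geom z.1)).obj S.X₁, (EtCoh.stalk (geom z.1)).map S.f a =
      (g : ∀ z : T, (EtCoh.stalk (geom z.1)).obj S.X₂) z := by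
    intro z
    have h1 := hS.map (EtCoh.stalk (geom z.1))
    rw [ShortComplex.ab_exact_iff] at h1
    exact h1 _ (congrFun hg z)
  choose a ha using h
  exact ⟨a, funext ha⟩

/-- a chosen element of the fibre of `X` over a geometric point -/
noncomputable def elt {Ω : Type u} [Field Ω] [IsSepClosed Ω] (ξ : Spec (CommRingCat.of Ω) ⟶ X) :
    Fib ξ (EtCoh.top X) := (exists_fib_top ξ).some

/-- germs of global sections at the points of `T` -/
noncomputable def germs (T : Finset X) : Γtop X ⟶ prodStalk T where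
  app F := AddCommGrpCat.ofHom
    { toFun := fun s z => germ (geom z.1) F (elt _) s
      map_zero' := by
        funext z
        exact map_zero _
      map_add' := fun s t => by
        funext z
        exact map_add _ _ _ }
  naturality F G φ := by
    ext s
    funext z
    exact (germ_map (geom z.1) φ (elt _) s).symm

theorem germs_apply (T : Finset X) (F : EtCoh.Ab X) (s : EtCoh.sect F (EtCoh.top X)) (z : T) :
    ((germs T).app F s : ∀ z : T, (EtCoh.stalk (geom z.1)).obj F) z = germ (geom z.1) F (elt _) s := rfl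

instance subsingleton_fib_top {Ω : Type u} [Field Ω] [IsSepClosed Ω] (ξ : Spec (CommRingCat.of Ω) ⟶ X) :
    Subsingleton (Fib ξ (EtCoh.top X)) := by
  refine ⟨fun x y => Etcore.StalkSec.ext_hom ξ x y ?_⟩
  have h1 := Etcore.StalkSec.hom_comp ξ x
  have h2 := Etcore.StalkSec.hom_comp ξ y
  exact (Category.comp_id _).symm.trans ((h1.trans h2.symm).trans (Category.comp_id _))

/-- Sections of a sheaf supported in `T` are determined by their germs. -/
theorem injective_germs (T : Finset X) (G : EtCoh.Ab X) (hG : EtPBC.supp G ⊆ T)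
    (s : EtCoh.sect G (EtCoh.top X)) (hs : ∀ z ∈ T, germ (geom z) G (elt _) s = 0) : s = 0 := by
  refine Etcore.Stalks.sect_ext s 0 fun x => ?_
  refine ⟨_, inferInstance, inferInstance, geom x, geom_default x, fun t => ?_⟩
  by_cases hx : x ∈ T
  · rw [map_zero, Subsingleton.elim t (elt (geom x))]
    exact hs x hx
  · have hz := isZero_stalk_of_not_mem (F := G) (x := x) (fun h => hx (hG h)) (geom x) (geom_default x)
    have := AddCommGrpCat.subsingleton_of_isZero hz
    exact Subsingleton.elim _ _

/-- Sections of a sheaf with punctual support can be prescribed by their germs. -/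
theorem exists_sect (T : Finset X) (hT : ∀ x ∈ T, IsClosed ({x} : Set X))
    (hT' : ∀ x ∈ T, IsSepClosed (X.residueField x)) (F : EtCoh.Ab X) (hF : EtPBC.supp F ⊆ T)
    (g : ∀ z : X, (EtCoh.stalk (geom z)).obj F) :
    ∃ s : EtCoh.sect F (EtCoh.top X), ∀ z ∈ T, germ (geom z) F (elt _) s = g z := by
  classical
  induction T using Finset.induction_on generalizing F with
  | empty => exact ⟨0, fun z hz => absurd hz (Finset.notMem_empty z)⟩
  | insert x T hxT ih =>
    let ξ := geom x
    have hξ : ξ default = x := geom_default x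
    have hcl : IsClosed ({ξ default} : Set X) := by
      rw [hξ]; exact hT x (Finset.mem_insert_self x T)
    have hsc : IsSepClosed (X.residueField (ξ default)) := by
      rw [hξ]; exact hT' x (Finset.mem_insert_self x T)
    let η : F ⟶ (sky ξ).obj ((EtCoh.stalk ξ).obj F) := (skyAdj ξ).unit.app F
    have htri : (EtCoh.stalk ξ).map η ≫ (skyAdj ξ).counit.app ((EtCoh.stalk ξ).obj F) = 𝟙 _ :=
      (skyAdj ξ).left_triangle_components F
    have hinj := counit_injective ξ hcl hsc ((EtCoh.stalk ξ).obj F)
    have hz : ∀ y, y ≠ x → IsZero ((EtCoh.stalk (geom y)).obj ((sky ξ).obj ((EtCoh.stalk ξ).obj F))) :=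
      fun y hy => isZero_stalk_sky ξ hcl (geom y) (by rw [geom_default, hξ]; exact hy) _
    have hepi : Epi η := Etcore.Stalks.epi_of_stalks η fun y => by
      by_cases hy : y = x
      · subst hy
        refine ⟨_, inferInstance, inferInstance, ξ, hξ, fun p => ?_⟩
        refine ⟨(skyAdj ξ).counit.app _ p, ?_⟩
        apply hinj
        exact ConcreteCategory.congr_hom htri ((skyAdj ξ).counit.app _ p)
      · refine ⟨_, inferInstance, inferInstance, geom y, geom_default y, fun p => ⟨0, ?_⟩⟩
        have := AddCommGrpCat.subsingleton_of_isZero (hz y hy)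
        exact Subsingleton.elim _ _
    let S : ShortComplex (EtCoh.Ab X) := ShortComplex.mk (kernel.ι η) η (kernel.condition η)
    have hS : S.ShortExact := { exact := ShortComplex.exact_kernel η }
    have h0 : (EtCoh.stalk ξ).map (kernel.ι η) = 0 := by
      have h1 : (EtCoh.stalk ξ).map (kernel.ι η) ≫ (EtCoh.stalk ξ).map η = 0 := by
        rw [← Functor.map_comp, kernel.condition, Functor.map_zero]
      have h2 : (EtCoh.stalk ξ).map (kernel.ι η) ≫ ((EtCoh.stalk ξ).map η ≫
        (skyAdj ξ).counit.app ((EtCoh.stalk ξ).obj F)) = 0 := by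
        rw [← Category.assoc, h1, zero_comp]
      rw [htri] at h2
      exact (Category.comp_id _).symm.trans h2
    have hN : EtPBC.supp (kernel η) ⊆ T := by
      intro y hy
      by_cases hyx : y = x
      · exfalso
        subst hyx
        have hmono : Mono ((EtCoh.stalk ξ).map (kernel.ι η)) := inferInstance
        refine (mem_supp_iff _ y ξ ((range_eq_iff ξ y).2 hξ)).1 hy ?_
        exact IsZero.of_mono_eq_zero _ h0
      · have h1 : y ∈ EtPBC.supp F := by
          by_contra hyF
          refine (not_mem_supp_iff _ y).2 ?_ hy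
          rw [← geom_default y, ← stalk_isZero_iff]
          exact IsZero.of_mono ((EtCoh.stalk (geom y)).map (kernel.ι η))
            (isZero_stalk_of_not_mem hyF (geom y) (geom_default y))
        have h2 := hF h1
        simp only [Finset.coe_insert, Set.mem_insert_iff] at h2
        exact h2.resolve_left hyx
    have hH1 : Subsingleton (HH X (kernel η) 1) := van_of_finite_supp T
      (fun y hy => hT y (Finset.mem_insert_of_mem hy)) (fun y hy => hT' y (Finset.mem_insert_of_mem hy))
      (kernel η) hN 1 one_pos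
    -- a section of the skyscraper sheaf
    obtain ⟨t, ht⟩ : ∃ t : EtCoh.sect ((sky ξ).obj ((EtCoh.stalk ξ).obj F)) (EtCoh.top X),
        comp ξ ((EtCoh.stalk ξ).obj F) (elt ξ) t = g x := by
      let l : (EtCoh.stalk ξ).obj F ⟶ ((sky ξ).obj ((EtCoh.stalk ξ).obj F)).obj.obj (op (EtCoh.top X)) :=
        Pi.lift (fun _ : (Scheme.pointSmallEtale ξ).fiber.obj (EtCoh.top X) => 𝟙 _)
      refine ⟨l (g x), ?_⟩
      have h1 : l ≫ comp ξ ((EtCoh.stalk ξ).obj F) (elt ξ) = 𝟙 _ := Limits.Pi.lift_π _ _
      exact ConcreteCategory.congr_hom h1 (g x)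
    obtain ⟨s, hs⟩ : ∃ s : EtCoh.sect F (EtCoh.top X), η.hom.app (op (EtCoh.top X)) s = t := by
      obtain ⟨y, hy⟩ := Ext.covariant_sequence_exact₃ (EtCoh.const X ℤ) hS
        ((HHzero X ((sky ξ).obj ((EtCoh.stalk ξ).obj F))).symm t) (n₁ := 1) rfl
        (@Subsingleton.elim _ hH1 _ _)
      refine ⟨HHzero X F y, ?_⟩
      apply (HHzero X ((sky ξ).obj ((EtCoh.stalk ξ).obj F))).symm.injective
      rw [← HHzero_symm_map, AddEquiv.symm_apply_apply]
      exact hy
    have hsx : germ ξ F (elt ξ) s = g x := by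
      have h1 : (EtCoh.stalk ξ).map η (germ ξ F (elt ξ) s) = germ ξ _ (elt ξ) t := by
        rw [germ_map, hs]
      have h2 := ConcreteCategory.congr_hom htri (germ ξ F (elt ξ) s)
      have h3 : (skyAdj ξ).counit.app _ ((EtCoh.stalk ξ).map η (germ ξ F (elt ξ) s)) =
        germ ξ F (elt ξ) s := h2
      rw [← h3, h1, ← ht]
      exact counit_germ ξ _ (elt ξ) t
    have hlift : ∀ z : X, ∃ m : (EtCoh.stalk (geom z)).obj (kernel η), z ≠ x →
        (EtCoh.stalk (geom z)).map (kernel.ι η) m = g z - germ (geom z) F (elt _) s := by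
      intro z
      by_cases hzx : z = x
      · exact ⟨0, fun h => absurd hzx h⟩
      · have h1 := hS.exact.map (EtCoh.stalk (geom z))
        rw [ShortComplex.ab_exact_iff] at h1
        have h2 := AddCommGrpCat.subsingleton_of_isZero (hz z hzx)
        obtain ⟨m, hm⟩ := h1 (g z - germ (geom z) F (elt _) s) (@Subsingleton.elim _ h2 _ _)
        exact ⟨m, fun _ => hm⟩
    choose m hm using hlift
    obtain ⟨n, hn⟩ := ih (fun y hy => hT y (Finset.mem_insert_of_mem hy))
      (fun y hy => hT' y (Finset.mem_insert_of_mem hy)) (kernel η) hN m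
    refine ⟨s + (kernel.ι η).hom.app (op (EtCoh.top X)) n, fun z hz' => ?_⟩
    rw [map_add, ← germ_map]
    rcases Finset.mem_insert.1 hz' with rfl | hz2
    · have h1 : (EtCoh.stalk (geom z)).map (kernel.ι η) (germ (geom z) _ (elt _) n) = 0 :=
        ConcreteCategory.congr_hom h0 _
      rw [h1, add_zero]
      exact hsx
    · have hzx : z ≠ x := by
        rintro rfl
        exact hxT hz2
      rw [hn z hz2, hm z hzx]
      abel

/-- Global sections of a sheaf supported in `T`. -/
theorem bijective_germs (T : Finset X) (hT : ∀ x ∈ T, IsClosed ({x} : Set X))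
    (hT' : ∀ x ∈ T, IsSepClosed (X.residueField x)) (F : EtCoh.Ab X) (hF : EtPBC.supp F ⊆ T) :
    Function.Bijective ((germs T).app F) := by
  classical
  constructor
  · rw [injective_iff_map_eq_zero]
    intro s hs
    exact injective_germs T F hF s fun z hz => congrFun hs ⟨z, hz⟩
  · intro g
    obtain ⟨s, hs⟩ := exists_sect T hT hT' F hF (fun z => if h : z ∈ T then
      (g : ∀ z : T, (EtCoh.stalk (geom z.1)).obj F) ⟨z, h⟩ else 0)
    refine ⟨s, funext fun z => ?_⟩
    have := hs z.1 z.2
    rw [dif_pos z.2] at this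
    exact this

section derived

variable {A : Type*} [Category* A] [Abelian A] [HasInjectiveResolutions A] {B : Type*} [Category* B]
  [Abelian B]

/-- A functor vanishing on injectives has vanishing derived functors. -/
theorem isZero_rightDerived (G : A ⥤ B) [G.Additive] (h : ∀ M, IsZero (G.obj M)) (n : ℕ) (M : A) :
    IsZero ((G.rightDerived n).obj M) := by
  refine IsZero.of_iso ?_ ((injectiveResolution M).isoRightDerivedObj G n)
  change IsZero (HomologicalComplex.homology _ n)
  rw [← HomologicalComplex.exactAt_iff_isZero_homology]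
  exact ShortComplex.exact_of_isZero_X₂ _ (h _)

end derived

section

variable {U : Scheme.{u}} (j : U ⟶ X) [IsOpenImmersion j] [EtCoh.BCCont j]

/-- Sections with support vanish on `U`. -/
theorem isZero_pull_secSupp (F : EtCoh.Ab X) :
    IsZero ((EtCoh.pull j).obj ((EtDual.secSupp j).obj F)) := by
  have := Sga4h.EtaleRes2.preservesFiniteLimits_pull j
  have h0 : (EtCoh.pull j).map (kernel.ι (EtDual.unitApp j F)) = 0 :=
    (Sga4h.SecSupp.comp_unit_eq_zero_iff_pull j _).1 (kernel.condition _)
  have : Mono ((EtCoh.pull j).map (kernel.ι (EtDual.unitApp j F))) := inferInstance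
  exact IsZero.of_mono_eq_zero _ h0

/-- Local cohomology sheaves vanish on `U`. -/
theorem isZero_pull_locCoh (q : ℕ) (F : EtCoh.Ab X) :
    IsZero ((EtCoh.pull j).obj ((EtDual.locCoh j q).obj F)) := by
  have := Sga4h.EtaleRes2.preservesFiniteLimits_pull j
  have : PreservesFiniteColimits (EtCoh.pull j) :=
    ⟨fun _ _ _ => (EtCoh.pullPushAdj j).leftAdjoint_preservesColimits.preservesColimitsOfShape⟩
  have : (EtCoh.pull j).PreservesHomology := inferInstance
  have h := isZero_rightDerived (EtDual.secSupp j ⋙ EtCoh.pull j) (fun M => isZero_pull_secSupp j M) q F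
  exact h.of_iso ((Sga4h.RDExact.postIso (EtDual.secSupp j) (EtCoh.pull j) q).app F).symm

/-- Stalks of sheaves vanishing on `U`. -/
theorem isZero_stalk_of_range (G : EtCoh.Ab X) (hG : IsZero ((EtCoh.pull j).obj G)) {Ω : Type u} [Field Ω]
    [IsSepClosed Ω] (ξ : Spec (CommRingCat.of Ω) ⟶ X) (h : ξ default ∈ Set.range j) :
    IsZero ((EtCoh.stalk ξ).obj G) := by
  obtain ⟨y, hy⟩ := h
  obtain ⟨Ω', _, _, η, hη⟩ := EtpbcA.Germ.exists_geomPt_aux U y
  obtain ⟨e⟩ := EtpbcB.GeomPointIndep.nonempty_stalkIso ξ (η ≫ j) (by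
    rw [Scheme.Hom.comp_apply, hη, hy])
  exact ((EtCoh.stalk η).map_isZero hG).of_iso ((e ≪≫ Etbase.StalkPull.stalkPullIso j η).app G)

variable (T : Finset X)

theorem supp_secSupp (hj : ∀ x : X, x ∉ Set.range j → x ∈ T) (F : EtCoh.Ab X) :
    EtPBC.supp ((EtDual.secSupp j).obj F) ⊆ T := by
  intro x hx
  by_contra h
  have hx' : x ∈ Set.range j := by
    by_contra h'
    exact h (hj x h')
  refine (not_mem_supp_iff _ x).2 ?_ hx
  rw [← geom_default x, ← stalk_isZero_iff]
  exact isZero_stalk_of_range j _ (isZero_pull_secSupp j F) (geom x) (by rwa [geom_default])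

/-- Sections with support in `T` are given by germs. -/
noncomputable def gammaIso (hT : ∀ x ∈ T, IsClosed ({x} : Set X))
    (hT' : ∀ x ∈ T, IsSepClosed (X.residueField x)) (hj : ∀ x : X, x ∉ Set.range j → x ∈ T) :
    EtDual.secSupp j ⋙ Γtop X ≅ EtDual.secSupp j ⋙ prodStalk T :=
  NatIso.ofComponents (fun F =>
      haveI : IsIso ((germs T).app ((EtDual.secSupp j).obj F)) :=
        (ConcreteCategory.isIso_iff_bijective _).2 (bijective_germs T hT hT' _ (supp_secSupp j T hj F))
      asIso ((germs T).app ((EtDual.secSupp j).obj F)))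
    (fun f => (germs T).naturality _)

/-- The groups `H^q_T(X, F)` are products of stalks of the local cohomology sheaves. -/
theorem nonempty_HY_equiv (hT : ∀ x ∈ T, IsClosed ({x} : Set X))
    (hT' : ∀ x ∈ T, IsSepClosed (X.residueField x)) (hj : ∀ x : X, x ∉ Set.range j → x ∈ T) (q : ℕ)
    (F : EtCoh.Ab X) :
    Nonempty ((EtDual.HY j q).obj F ≃
      ∀ z : T, (EtCoh.stalk (geom z.1)).obj ((EtDual.locCoh j q).obj F)) := by
  have e : (EtDual.HY j q).obj F ≅ (prodStalk T).obj ((EtDual.locCoh j q).obj F) :=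
    (Sga4h.RightDer.rightDerivedIso (gammaIso j T hT hT' hj) q).app F ≪≫
      (Sga4h.RDExact.postIso (EtDual.secSupp j) (prodStalk T) q).app F
  exact ⟨e.addCommGroupIsoToAddEquiv.toEquiv⟩

theorem card_HY (hT : ∀ x ∈ T, IsClosed ({x} : Set X))
    (hT' : ∀ x ∈ T, IsSepClosed (X.residueField x)) (hj : ∀ x : X, x ∉ Set.range j → x ∈ T) (q : ℕ)
    (F : EtCoh.Ab X) :
    Nat.card ((EtDual.HY j q).obj F) =
      ∏ z ∈ T, Nat.card ((EtCoh.stalk (geom z)).obj ((EtDual.locCoh j q).obj F)) := by
  obtain ⟨e⟩ := nonempty_HY_equiv j T hT hT' hj q F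
  rw [Nat.card_congr e, Nat.card_pi]
  exact Finset.prod_coe_sort T
    (fun z => Nat.card ((EtCoh.stalk (geom z)).obj ((EtDual.locCoh j q).obj F)))

theorem finite_stalk_locCoh (hT : ∀ x ∈ T, IsClosed ({x} : Set X))
    (hT' : ∀ x ∈ T, IsSepClosed (X.residueField x)) (hj : ∀ x : X, x ∉ Set.range j → x ∈ T) (q : ℕ)
    (F : EtCoh.Ab X) (hfin : Finite ((EtDual.HY j q).obj F)) (z : X) (hz : z ∈ T) :
    Finite ((EtCoh.stalk (geom z)).obj ((EtDual.locCoh j q).obj F)) := by
  obtain ⟨e⟩ := nonempty_HY_equiv j T hT hT' hj q F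
  have : Finite (∀ z : T, (EtCoh.stalk (geom z.1)).obj ((EtDual.locCoh j q).obj F)) := Finite.of_equiv _ e
  exact Finite.of_surjective (fun g : (∀ z : T, (EtCoh.stalk (geom z.1)).obj
    ((EtDual.locCoh j q).obj F)) => g ⟨z, hz⟩) (Function.surjective_eval _)

end

end Groth.Agent.Sga5.H853.LocTerm
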