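import Groth.Agent.Sga5.H853.Acyc
import Groth.Agent.Sga4A.HensFibre

/-!
# Comparison of the Euler-Poincare characteristics of the special and of the generic fibre
-/

set_option autoImplicit false
universe u
open CategoryTheory CategoryTheory.Limits AlgebraicGeometry Opposite

namespace Groth.Agent.Sga5.H853.Special

open Groth.Agent.Sga4h Groth.Agent.Sga5.H853.LocTerm
  Groth.Agent.Sga5.H853.CountLES Groth.Agent.Sga5.H853.LocCmp
  Groth.Agent.Etrest.FLCTors

theorem fin3_of_equiv {X Y : Scheme.{u}} {F : EtCoh.Ab X} {G : EtCoh.Ab Y}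
    (h : ∀ q, Nonempty (EtCoh.H X F q ≃ EtCoh.H Y G q)) (hG : Fin3 Y G) : Fin3 X F := by
  constructor
  · intro q
    obtain ⟨e⟩ := h q
    have := hG.1 q
    exact Finite.of_equiv _ e.symm
  · intro q hq
    obtain ⟨e⟩ := h q
    have := hG.2 q hq
    exact e.subsingleton

theorem chi_of_equiv {X Y : Scheme.{u}} {F : EtCoh.Ab X} {G : EtCoh.Ab Y}
    (h : ∀ q, Nonempty (EtCoh.H X F q ≃ EtCoh.H Y G q)) : chi X F = chi Y G := by
  have h' : ∀ q, Nat.card (EtCoh.H X F q) = Nat.card (EtCoh.H Y G q) := fun q => by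
    obtain ⟨e⟩ := h q
    exact Nat.card_congr e
  unfold chi
  rw [h', h', h']

theorem nonempty_H_of_iso {X : Scheme.{u}} {F G : EtCoh.Ab X} (e : F ≅ G) (q : ℕ) :
    Nonempty (EtCoh.H X F q ≃ EtCoh.H X G q) :=
  ⟨((EtCoh.HF X q).mapIso e).addCommGroupIsoToAddEquiv.toEquiv⟩

/-- `j^{-1} j_! G ≅ G` for an open immersion. -/
noncomputable def pullExtZero {X U : Scheme.{u}} (j : U ⟶ X) [IsOpenImmersion j] (G : EtCoh.Ab U) :
    (EtCoh.pull j).obj ((EtShriek.extZero j).obj G) ≅ G :=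
  haveI := EtaleRes.jCont j
  (EtaleRes.pullIsoRestr j).app _ ≪≫ (asIso ((EtShriek.extZeroAdj j).unit.app G)).symm

theorem killedBy_extZero {X U : Scheme.{u}} (j : U ⟶ X) [IsOpenImmersion j] (G : EtCoh.Ab U) (N : ℕ)
    (h : EtCoh.KilledBy N G) : EtCoh.KilledBy N ((EtShriek.extZero j).obj G) := by
  have : (EtShriek.extZero j).Additive := (EtShriek.extZeroAdj j).left_adjoint_additive
  exact EtpbcB.TorsionBasic.killedBy_map _ N _ h

section

variable (R : Type u) [CommRing R] [HenselianLocalRing R] [IsSepClosed (IsLocalRing.ResidueField R)]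
  {Ω : Type u} [Field Ω] [IsSepClosed Ω] (t : Spec (CommRingCat.of Ω) ⟶ Spec (CommRingCat.of R))
  [IsOpenImmersion t]
  (ht : ∀ s : Spec (CommRingCat.of R), s ∉ Set.range t → s = IsLocalRing.closedPoint R)
  (N : ℕ) (hN : IsUnit (N : Γ(Spec (CommRingCat.of R), ⊤)))
  {X : Scheme.{u}} (f : X ⟶ Spec (CommRingCat.of R)) [IsProper f]
  (T : Finset X) (hT : ∀ x ∈ T, IsClosed ({x} : Set X)) (hT' : ∀ x ∈ T, IsSepClosed (X.residueField x))
  {U : Scheme.{u}} (j : U ⟶ X) [IsOpenImmersion j] (hj : ∀ x : X, x ∉ Set.range j → x ∈ T)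
  {Y : Scheme.{u}} (w : Y ⟶ U) (e : Y ⟶ Spec (CommRingCat.of Ω)) (hc : IsPullback e w t (j ≫ f))

include ht hN hT hT' hj hc in
/-- **Comparison of the special and the generic fibre.** -/
theorem special (G : EtCoh.Ab U) (hG : EtCoh.KilledBy N G)
    (hloc : ∀ x : U, (j ≫ f) x = IsLocalRing.closedPoint R → ∃ (V : Scheme.{u}) (h : V ⟶ U) (_ : Etale h)
      (v : V), h v = x ∧ Smooth (h ≫ j ≫ f) ∧ EtCoh.IsFiniteLocallyConstant ((EtCoh.pull h).obj G))
    (hX : Fin3 X ((EtShriek.extZero j).obj G)) (hY : Fin3 Y ((EtCoh.pull w).obj G)) :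
    (∀ z ∈ T, 0 < lamE j G (geom z)) ∧
    chi X ((EtShriek.extZero j).obj G) = (∏ z ∈ T, lamE j G (geom z)) * chi Y ((EtCoh.pull w).obj G) := by
  have hw : IsOpenImmersion w := MorphismProperty.of_isPullback hc inferInstance
  have h1 : ∀ q, Nonempty (EtCoh.H U G q ≃ EtCoh.H Y ((EtCoh.pull w).obj G) q) := fun q =>
    Acyc.nonempty_H_generic R t (j ≫ f) w e hc N hN G hG hloc ht q
  have h2 : ∀ q, Nonempty (EtCoh.H U ((EtCoh.pull j).obj ((EtShriek.extZero j).obj G)) q ≃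
      EtCoh.H Y ((EtCoh.pull w).obj G) q) := fun q => by
    obtain ⟨e1⟩ := nonempty_H_of_iso (pullExtZero j G) q
    obtain ⟨e2⟩ := h1 q
    exact ⟨e1.trans e2⟩
  have h3 := chi_eq j ((EtShriek.extZero j).obj G) T hT hT' hj hX (fin3_of_equiv h2 hY)
  rw [chi_of_equiv h2] at h3
  exact h3

omit [IsSepClosed (IsLocalRing.ResidueField R)] in
/-- Proper base change for the closed fibre. -/
theorem nonempty_H_closed {X₀ : Scheme.{u}} (i : X₀ ⟶ X)
    (i0 : X₀ ⟶ Spec (CommRingCat.of (IsLocalRing.ResidueField R)))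
    (sq : IsPullback i i0 f (Spec.map (CommRingCat.ofHom (IsLocalRing.residue R))))
    (F : EtCoh.Ab X) (hF : EtCoh.IsTorsion F) (q : ℕ) :
    Nonempty (EtCoh.H X F q ≃ EtCoh.H X₀ ((EtCoh.pull i).obj F) q) := by
  have := Groth.Agent.S0101.result i
  have : HenselianRing R (IsLocalRing.maximalIdeal R) := inferInstance
  exact ⟨Equiv.ofBijective _ (Groth.Agent.Sga4A.HensFibre.Hpull_proper R (IsLocalRing.maximalIdeal R) f
    i i0 sq F hF q)⟩

omit [IsSepClosed (IsLocalRing.ResidueField R)] in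
/-- Proper base change for the extension by zero. -/
theorem nonempty_H_closed_extZero {X₀ U₀ : Scheme.{u}} (i : X₀ ⟶ X)
    (i0 : X₀ ⟶ Spec (CommRingCat.of (IsLocalRing.ResidueField R)))
    (sq : IsPullback i i0 f (Spec.map (CommRingCat.ofHom (IsLocalRing.residue R))))
    (j₀ : U₀ ⟶ X₀) [IsOpenImmersion j₀] (i' : U₀ ⟶ U) (sq' : IsPullback i' j₀ j i)
    (hN0 : 0 < N) (G : EtCoh.Ab U) (hG : EtCoh.KilledBy N G) (q : ℕ) :
    Nonempty (EtCoh.H X ((EtShriek.extZero j).obj G) q ≃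
      EtCoh.H X₀ ((EtShriek.extZero j₀).obj ((EtCoh.pull i').obj G)) q) := by
  obtain ⟨e1⟩ := nonempty_H_closed R f i i0 sq ((EtShriek.extZero j).obj G)
    (EtpbcB.TorsionBasic.isTorsion_of_killedBy hN0 (killedBy_extZero j G N hG)) q
  obtain ⟨e2⟩ := nonempty_H_of_iso
    ((Etcore.ShriekBaseChange.extZeroBaseChange j i j₀ i' sq'.flip).symm.app G) q
  exact ⟨e1.trans e2⟩

end

end Groth.Agent.Sga5.H853.Special
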