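import Groth.Agent.Sga5.H853.AtInf
import Groth.Agent.Sga5.H853.Compactify
import Groth.Agent.EtpbcA.Strata

/-!
# Theorem D

Constructible sheaves on the projective line over an algebraically closed field, killed by an invertible
integer, which are locally isomorphic for the etale topology have the same Euler characteristic.
-/

set_option autoImplicit false
universe u
open CategoryTheory CategoryTheory.Limits AlgebraicGeometry Opposite

namespace Groth.Agent.Sga5.H853.ThmD

open P1 Groth.Agent.CycB.P1Chart Groth.Agent.EtpbcA.P1Charts Groth.Agent.Sga4B.P1Geom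
  Groth.Agent.Sga5.H853.CountLES Groth.Agent.Sga5.H853.LocCmp
  Groth.Agent.EtpbcA Groth.Agent.Sga5.H853.Family
  Groth.Agent.Sga4B.P1Transl Groth.Agent.Sga5.H853.CaseOne
  Groth.Agent.Sga5.H853.AtInf

/-- Constructible sheaves on integral schemes are generically finite locally constant. -/
theorem exists_flc_open {P : Scheme.{u}} [IsIntegral P] (F : EtCoh.Ab P)
    (hF : EtPBC.IsConstructible F) :
    ∃ U : P.Opens, genericPoint P ∈ U ∧
      EtCoh.IsFiniteLocallyConstant ((EtCoh.pull U.ι).obj F) := by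
  obtain ⟨V, hV, T, g, hg, hgV, ⟨t, ht⟩, -, hflc⟩ :=
    (Strata.isConstructible_iff_local' _).1 hF (genericPoint P)
  have h0 : g.coborderRange.ι (g.liftCoborder t) = genericPoint P := by
    rw [← Scheme.Hom.comp_apply, g.liftCoborder_ι, ht]
  have hmem : genericPoint P ∈ g.coborderRange := h0 ▸ (g.liftCoborder t).2
  have hclosed : IsClosed (Set.range g.liftCoborder) :=
    g.liftCoborder.isClosedEmbedding.isClosed_range
  have hsurj : Surjective g.liftCoborder := by
    refine ⟨fun y => ?_⟩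
    have h1 : (g.liftCoborder t) ⤳ y := by
      rw [← g.coborderRange.ι.isOpenEmbedding.isInducing.specializes_iff]
      rw [h0]
      exact genericPoint_specializes _
    exact h1.mem_closed hclosed ⟨t, rfl⟩
  have : IsIso g.liftCoborder := isIso_of_isClosedImmersion_of_surjective _
  refine ⟨g.coborderRange, hmem, ?_⟩
  have h2 : inv g.liftCoborder ≫ g = g.coborderRange.ι := by
    rw [IsIso.inv_comp_eq, g.liftCoborder_ι]
  exact PullFLC.isFLC_of_iso ((PullFLC.pullComp _ _).app F ≪≫ (PullFLC.pullCongr h2).app F)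
    (PullFLC.isFLC_pull (inv g.liftCoborder) _ hflc)

theorem flc_of_le {P : Scheme.{u}} {U V : P.Opens} (h : V ≤ U) (F : EtCoh.Ab P)
    (hF : EtCoh.IsFiniteLocallyConstant ((EtCoh.pull U.ι).obj F)) :
    EtCoh.IsFiniteLocallyConstant ((EtCoh.pull V.ι).obj F) :=
  PullFLC.isFLC_of_iso (pp (P.homOfLE h) U.ι V.ι (P.homOfLE_ι h) F)
    (PullFLC.isFLC_pull (P.homOfLE h) _ hF)

section line

variable {k : Type u} [Field k]

instance : IsDomain (CommRingCat.of k) := inferInstanceAs (IsDomain k)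

theorem irreducibleSpace_PP : IrreducibleSpace (PP (CommRingCat.of k)) := by
  have h1 : IrreducibleSpace (AA (CommRingCat.of k)) :=
    inferInstanceAs (IrreducibleSpace (PrimeSpectrum (Polynomial k)))
  have h2 : DenseRange (chart 0 (CommRingCat.of k)) := (chart 0 (CommRingCat.of k)).denseRange
  have h3 : IsIrreducible (Set.univ : Set (PP (CommRingCat.of k))) := by
    have h4 : IsIrreducible (Set.range (chart 0 (CommRingCat.of k))) := by
      rw [← Set.image_univ]
      exact (IrreducibleSpace.isIrreducible_univ _).image _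
        (chart 0 (CommRingCat.of k)).continuous.continuousOn
    have h5 := h4.closure
    rwa [h2.closure_eq] at h5
  exact { toPreirreducibleSpace := ⟨h3.2⟩, toNonempty := ⟨h3.1.choose⟩ }

instance isIntegral_PP : IsIntegral (PP (CommRingCat.of k)) := by
  have := irreducibleSpace_PP (k := k)
  exact isIntegral_of_irreducibleSpace_of_isReduced _

instance isNoetherian_PP : IsNoetherian (PP (CommRingCat.of k)) := by
  have h1 : IsNoetherianRing (CommRingCat.of k) := inferInstanceAs (IsNoetherianRing k)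
  have h2 : IsLocallyNoetherian (PP (CommRingCat.of k)) :=
    LocallyOfFiniteType.isLocallyNoetherian (toB (CommRingCat.of k))
  have h3 : CompactSpace (PP (CommRingCat.of k)) :=
    QuasiCompact.compactSpace_of_compactSpace (toB (CommRingCat.of k))
  exact {}

/-- the rational points of the chart -/
noncomputable def kpt (i : Fin (1 + 1)) (c : k) : PP (CommRingCat.of k) :=
  pt (B := CommRingCat.of k) i (𝟙 (Spec (CommRingCat.of k))) c default

theorem kpt_eq (i : Fin (1 + 1)) (c : k) : kpt i c = chart i (CommRingCat.of k)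
    (Spec.map (evh (𝟙 (CommRingCat.of k)) c) default) := by
  rw [← Scheme.Hom.comp_apply, evh_chart, Spec.map_id]
  rfl

theorem kpt_injective (i : Fin (1 + 1)) : Function.Injective (kpt (k := k) i) := by
  intro c c' h
  rw [kpt_eq, kpt_eq] at h
  have h1 := (chart i (CommRingCat.of k)).isOpenEmbedding.injective h
  have key : ∀ c : k, (Polynomial.X - Polynomial.C c : Polynomial k) ∈
      (Spec.map (evh (𝟙 (CommRingCat.of k)) c) default).asIdeal := by
    intro c
    change (evh (𝟙 (CommRingCat.of k)) c).hom (Polynomial.X - Polynomial.C c : Polynomial k) ∈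
      (default : Spec (CommRingCat.of k)).asIdeal
    have h0 : (evh (𝟙 (CommRingCat.of k)) c).hom (Polynomial.X - Polynomial.C c : Polynomial k) = 0 := by
      rw [map_sub, evh_X, evh_C]
      exact sub_self c
    rw [h0]
    exact zero_mem _
  by_contra hne
  have h2 := sub_mem (key c) (h1 ▸ key c')
  have h3 : (Polynomial.X - Polynomial.C c - (Polynomial.X - Polynomial.C c') : Polynomial k) =
      Polynomial.C (c' - c) := by
    rw [map_sub]
    ring
  rw [h3] at h2
  have h4 : IsUnit (Polynomial.C (c' - c) : Polynomial k) :=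
    (IsUnit.mk0 _ (sub_ne_zero.2 (Ne.symm hne))).map _
  exact (Spec.map (evh (𝟙 (CommRingCat.of k)) c) default).isPrime.ne_top (Ideal.eq_top_of_isUnit_mem _ h2 h4)

theorem isClosed_kpt (i : Fin (1 + 1)) (c : k) : IsClosed ({kpt i c} : Set (PP (CommRingCat.of k))) := by
  let p := pt (B := CommRingCat.of k) i (𝟙 (Spec (CommRingCat.of k))) c
  have hp : p ≫ toB (CommRingCat.of k) = 𝟙 _ := pt_toBase _ _ _
  have hpc : IsClosedImmersion p := isClosedImmersion_of_comp_eq_id _ _ hp
  have h1 : ({kpt i c} : Set (PP (CommRingCat.of k))) = Set.range p := by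
    ext x
    constructor
    · rintro rfl
      exact ⟨_, rfl⟩
    · rintro ⟨y, rfl⟩
      exact congrArg p (Subsingleton.elim (α := Spec (CommRingCat.of k)) _ _)
  rw [h1]
  exact p.isClosedEmbedding.isClosed_range

theorem exists_kpt [IsAlgClosed k] (i : Fin (1 + 1)) (Z : Set (PP (CommRingCat.of k))) (hZ : Z.Finite) :
    ∃ c : k, kpt i c ∉ Z := by
  have : Infinite k := IsAlgClosed.instInfinite
  by_contra h
  push Not at h
  exact Set.infinite_of_injective_forall_mem (kpt_injective i) h hZ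

theorem transl_kpt (i : Fin (1 + 1)) (c : k) :
    transl i (CommRingCat.of k) c (kpt i c) = sect (Spec (CommRingCat.of k)) i default := by
  have h1 := pt_transl i (CommRingCat.of k) c (𝟙 (CommRingCat.of k)) c
  rw [Spec.map_id] at h1
  unfold kpt
  rw [← Scheme.Hom.comp_apply, h1]
  change pt (B := CommRingCat.of k) i (𝟙 (Spec (CommRingCat.of k))) (c - c) default = _
  rw [sub_self, pt_zero, Category.id_comp]

theorem transl_kpt_notMem (i : Fin (1 + 1)) (c : k) :
    transl (i + 1) (CommRingCat.of k) c (kpt (i + 1) c) ∉ Set.range (chart i (CommRingCat.of k)) := by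
  rw [transl_kpt]
  exact CaseTwo.sect_notMem i _ _

theorem transl_notMem_iff (i : Fin (1 + 1)) (c : k) (p : PP (CommRingCat.of k)) :
    transl (i + 1) (CommRingCat.of k) c p ∉ Set.range (chart i (CommRingCat.of k)) ↔ p = kpt (i + 1) c := by
  constructor
  · intro h
    have h1 := notMem_range_unique i _ _ h (transl_kpt_notMem i c)
    exact (transl (i + 1) (CommRingCat.of k) c).homeomorph.injective h1
  · rintro rfl
    exact transl_kpt_notMem i c

end line

variable {k : Type u} [Field k] [IsAlgClosed k]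

/-- **Theorem D** -/
theorem chi_eq_of_etLoc (N : ℕ) (hN : (N : k) ≠ 0) (A₁ A₂ : EtCoh.Ab (PP (CommRingCat.of k)))
    (hA₁ : EtCoh.KilledBy N A₁) (hA₂ : EtCoh.KilledBy N A₂)
    (hAc₁ : EtPBC.IsConstructible A₁) (hAc₂ : EtPBC.IsConstructible A₂) (hA : EtLoc A₁ A₂) :
    chi (PP (CommRingCat.of k)) A₁ = chi (PP (CommRingCat.of k)) A₂ := by
  have hdim : topologicalKrullDim (PP (CommRingCat.of k)) ≤ 1 := dim_PP_le k
  let P := PP (CommRingCat.of k)
  -- the open set where the sheaves are locally constant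
  obtain ⟨L₁, hgL₁, hf₁⟩ := exists_flc_open A₁ hAc₁
  obtain ⟨L₂, hgL₂, hf₂⟩ := exists_flc_open A₂ hAc₂
  let L : P.Opens := L₁ ⊓ L₂
  have hgL : genericPoint P ∈ L := ⟨hgL₁, hgL₂⟩
  have hL₁ : EtCoh.IsFiniteLocallyConstant ((EtCoh.pull L.ι).obj A₁) := flc_of_le inf_le_left A₁ hf₁
  have hL₂ : EtCoh.IsFiniteLocallyConstant ((EtCoh.pull L.ι).obj A₂) := flc_of_le inf_le_right A₂ hf₂
  have hLfin : ((L : Set P)ᶜ).Finite :=
    Compactify.finite_of_isClosed hdim _ L.isOpen.isClosed_compl (fun h => h hgL)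
  have hLcl : ∀ p, p ∉ L → IsClosed ({p} : Set P) := by
    intro p hp
    refine Compactify.isClosed_of_ne hdim p ?_
    rintro rfl
    exact hp hgL
  -- the finite covering
  obtain ⟨D, d, _, v, hv, ⟨φ⟩⟩ := hA (genericPoint P)
  obtain ⟨Y, h, _, W, g, hg, _, hWf, hWc, hsurj, hWg⟩ := Compactify.exists_compactification hdim d v hv
  have φW : (EtCoh.pull (W.ι ≫ h)).obj A₁ ≅ (EtCoh.pull (W.ι ≫ h)).obj A₂ :=
    (pp g d _ hg.symm A₁).symm ≪≫ (EtCoh.pull g).mapIso φ ≪≫ pp g d _ hg.symm A₂
  -- a general point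
  let i : Fin (1 + 1) := 0
  obtain ⟨c, hc⟩ := exists_kpt (k := k) (i + 1) ((L : Set P)ᶜ ∪ h '' (W : Set Y)ᶜ)
    (hLfin.union (hWf.image _))
  have hcL : kpt (i + 1) c ∈ L := by
    by_contra h'
    exact hc (Or.inl h')
  have hcW : ∀ y, h y = kpt (i + 1) c → y ∈ W := by
    intro y hy
    by_contra h'
    exact hc (Or.inr ⟨y, h', hy⟩)
  have hccl : IsClosed ({kpt (i + 1) c} : Set P) := isClosed_kpt (i + 1) c
  let τ : P ⟶ P := transl (i + 1) (CommRingCat.of k) c
  have hτ : IsIso τ := isIso_transl (i + 1) (CommRingCat.of k) c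
  have hτi : ∀ p, inv τ (τ p) = p := by
    intro p
    rw [← Scheme.Hom.comp_apply, IsIso.hom_inv_id]
    rfl
  have hiτ : ∀ p, τ (inv τ p) = p := by
    intro p
    rw [← Scheme.Hom.comp_apply, IsIso.inv_hom_id]
    rfl
  let L' : P.Opens := (inv τ) ⁻¹ᵁ L
  have e0 : (W.ι ≫ h ≫ τ) ≫ inv τ = W.ι ≫ h := by
    rw [Category.assoc, Category.assoc, IsIso.hom_inv_id, Category.comp_id]
  have hbadset : ∀ y : Y, (h ≫ τ) y ∉ Set.range (chart i (CommRingCat.of k)) ↔ h y = kpt (i + 1) c := by
    intro y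
    rw [Scheme.Hom.comp_apply]
    exact transl_notMem_iff i c (h y)
  have hLset : ∀ y : Y, (h ≫ τ) y ∉ L' ↔ h y ∉ L := by
    intro y
    have : inv τ ((h ≫ τ) y) = h y := by
      rw [Scheme.Hom.comp_apply]
      exact hτi _
    change ¬ (inv τ ((h ≫ τ) y) ∈ L) ↔ _
    rw [this]
  have hL' : ∀ A : EtCoh.Ab P, EtCoh.IsFiniteLocallyConstant ((EtCoh.pull L.ι).obj A) →
      EtCoh.IsFiniteLocallyConstant ((EtCoh.pull L'.ι).obj ((EtCoh.pull (inv τ)).obj A)) := by
    intro A hA
    have e1 : (inv τ ∣_ L) ≫ L.ι = L'.ι ≫ inv τ := morphismRestrict_ι _ _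
    exact PullFLC.isFLC_of_iso (pp (inv τ ∣_ L) L.ι _ e1 A ≪≫ (pp L'.ι (inv τ) _ rfl A).symm)
      (PullFLC.isFLC_pull (inv τ ∣_ L) _ hA)
  have hfin' : Etale (W.ι ≫ h ≫ τ) := by
    rw [← Category.assoc]
    infer_instance
  have key := at_infinity i (h ≫ τ) N hN W hWf hWc
    ((Compactify.finite_preimage h _ (Set.finite_singleton (kpt (i + 1) c))).subset
      fun y hy => (hbadset y).1 hy)
    (fun y hy => Compactify.isClosed_of_finite h y (by
      rw [(hbadset y).1 hy]
      exact hccl))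
    (fun y hy => hcW y ((hbadset y).1 hy)) L'
    ((Compactify.finite_preimage h _ hLfin).subset fun y hy => (hLset y).1 hy)
    (fun y hy => Compactify.isClosed_of_finite h y (hLcl _ ((hLset y).1 hy)))
    (fun p hp => by
      change inv τ p ∈ L
      have h1 : inv τ p = kpt (i + 1) c := by
        rw [← transl_notMem_iff i c]
        rw [hiτ p]
        exact hp
      rw [h1]
      exact hcL)
    (by
      obtain ⟨y, hy⟩ := hsurj (kpt (i + 1) c)
      exact ⟨y, (hbadset y).2 hy⟩)
    ((EtCoh.pull (inv τ)).obj A₁) ((EtCoh.pull (inv τ)).obj A₂)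
    (EtpbcB.TorsionBasic.killedBy_map _ N _ hA₁) (EtpbcB.TorsionBasic.killedBy_map _ N _ hA₂)
    (Groth.Agent.S0127.result _ _ hAc₁) (Groth.Agent.S0127.result _ _ hAc₂)
    (hL' A₁ hL₁) (hL' A₂ hL₂)
    (fun p => by
      obtain ⟨D', d', _, v', hv', ⟨φ'⟩⟩ := hA (inv τ p)
      refine ⟨D', d' ≫ τ, inferInstance, v', ?_, ?_⟩
      · rw [Scheme.Hom.comp_apply, hv', hiτ]
      · have e1 : (d' ≫ τ) ≫ inv τ = d' := by
          rw [Category.assoc, IsIso.hom_inv_id, Category.comp_id]
        exact ⟨pp _ _ _ e1 A₁ ≪≫ φ' ≪≫ (pp _ _ _ e1 A₂).symm⟩)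
    (pp _ _ _ e0 A₁ ≪≫ φW ≪≫ (pp _ _ _ e0 A₂).symm)
  rwa [chi_isIso, chi_isIso] at key

end Groth.Agent.Sga5.H853.ThmD
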